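import Cfsg.Agent.FiTypes.Basics

/-!
The type M(24) passes along isomorphisms.
-/

set_option autoImplicit false
set_option linter.unusedSectionVars false
set_option linter.style.haveILetI false

namespace Cfsg.Lib.M24Rec

open Cfsg Subgroup Cfsg.Lib.ThreeTr
open Cfsg.Lib.FiTypes (center_bot_congr image_perp quotient_equiv type23_congr)

universe u v

theorem type24_congr {G : Type u} [Group G] {H : Type v} [Group H] {D : Set G} (e : G ≃* H) (h : IsOfTypeM24 G D) :
    IsOfTypeM24 H (e '' D) := by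
  obtain ⟨hZ, d, hd, c, hc, hdc, h23, hL⟩ := h
  refine ⟨center_bot_congr e hZ, e d, ⟨d, hd, rfl⟩, e c, ⟨c, hc, rfl⟩, fun k => hdc (by simpa using k.map e.symm),
    ?_, ?_⟩
  · change IsOfTypeM23 (↥(closure (perp (e '' D) (e d))) ⧸ center ↥(closure (perp (e '' D) (e d))))
      ((QuotientGroup.mk : ↥(closure (perp (e '' D) (e d))) → _) '' {x | (x : H) ∈ perp (e '' D) (e d)})
    rw [image_perp]
    obtain ⟨i, hi⟩ := quotient_equiv e (perp D d)
    rw [← hi]
    exact type23_congr i h23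
  · show ∃ (N : Subgroup (↥(closure (perp (e '' D) (e d) ∩ perp (e '' D) (e c))) ⧸
      center ↥(closure (perp (e '' D) (e d) ∩ perp (e '' D) (e c))))) (_ : N.Normal),
        Nonempty (N ≃* POmega (ZMod 3) (quadFormPlus 4 (ZMod 3))) ∧
        Nonempty ((↥(closure (perp (e '' D) (e d) ∩ perp (e '' D) (e c))) ⧸
          center ↥(closure (perp (e '' D) (e d) ∩ perp (e '' D) (e c)))) ⧸ N ≃* Equiv.Perm (Fin 3))
    rw [image_perp, image_perp, ← Set.image_inter e.injective]
    have hL' : ∃ (N : Subgroup (↥(closure (perp D d ∩ perp D c)) ⧸ center ↥(closure (perp D d ∩ perp D c))))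
      (_ : N.Normal), Nonempty (N ≃* POmega (ZMod 3) (quadFormPlus 4 (ZMod 3))) ∧
        Nonempty ((↥(closure (perp D d ∩ perp D c)) ⧸ center ↥(closure (perp D d ∩ perp D c))) ⧸ N ≃*
          Equiv.Perm (Fin 3)) := hL
    obtain ⟨N, hN, ⟨j⟩, ⟨q⟩⟩ := hL'
    haveI := hN
    obtain ⟨i, -⟩ := quotient_equiv e (perp D d ∩ perp D c)
    refine ⟨N.map i.toMonoidHom, Subgroup.Normal.map hN _ i.surjective, ⟨(i.subgroupMap N).symm.trans j⟩, ?_⟩
    haveI := Subgroup.Normal.map hN i.toMonoidHom i.surjective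
    exact ⟨(QuotientGroup.congr N (N.map i.toMonoidHom) i rfl).symm.trans q⟩

theorem class24_congr {G : Type u} [Group G] {H : Type v} [Group H] {D : Set G} (e : G ≃* H)
    (h : IsThreeTranspositionClass D) : IsThreeTranspositionClass (e '' D) := by
  obtain ⟨⟨ho, hp⟩, ⟨d, hd, hD⟩, hg⟩ := h
  refine ⟨⟨?_, ?_⟩, ⟨e d, ⟨d, hd, rfl⟩, ?_⟩, ?_⟩
  · rintro _ ⟨x, hx, rfl⟩
    rw [← ho x hx]
    exact orderOf_injective e.toMonoidHom e.injective x
  · rintro _ ⟨x, hx, rfl⟩ _ ⟨y, hy, rfl⟩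
    rcases hp x hx y hy with k | k
    · exact Or.inl (by rw [← map_mul, ← map_pow, k, map_one])
    · exact Or.inr (by rw [← map_mul, ← map_pow, k, map_one])
  · ext y
    subst hD
    constructor
    · rintro ⟨x, hx, rfl⟩
      obtain ⟨k, rfl⟩ := isConj_iff.1 (show IsConj d x from hx)
      exact isConj_iff.2 ⟨e k, by rw [map_mul, map_mul, map_inv]⟩
    · intro hy
      obtain ⟨g, rfl⟩ := isConj_iff.1 (show IsConj (e d) y from hy)
      obtain ⟨k, rfl⟩ := e.surjective g
      exact ⟨k * d * k⁻¹, isConj_iff.2 ⟨k, rfl⟩, by rw [map_mul, map_mul, map_inv]⟩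
  · rw [show (e '' D : Set H) = e.toMonoidHom '' D from rfl, ← MonoidHom.map_closure, hg,
      map_top_of_surjective e.toMonoidHom e.surjective]

end Cfsg.Lib.M24Rec
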