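import Cfsg.Agent.M24Rec.Global
import Cfsg.Agent.M24Rec.Transport

/-!
A group with such an outer involution is generated by a class of 3-transpositions of type M(24).
-/

set_option autoImplicit false
set_option linter.unusedSectionVars false
set_option linter.style.haveILetI false
set_option maxRecDepth 100000

namespace Cfsg.Lib.M24Rec

open Cfsg Subgroup
open Cfsg.Lib.M23Rec (Fj)

universe u

theorem Setting.type_m24 {X : Type u} [Group X] {G₀ : Subgroup X} {d : X} {θ₀ : Fj →* X} (h : Setting G₀ d θ₀)
    [Finite X] : ∃ E : Set X, Cfsg.IsThreeTranspositionClass E ∧ Cfsg.IsOfTypeM24 X E := by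
  obtain ⟨F, hF, hFk⟩ := h.exists_model
  let e : Fk ≃* X := MulEquiv.ofBijective F ⟨hF, h.surjective hF hFk⟩
  exact ⟨e '' E0, class24_congr e h24.cls, type24_congr e FiTypes.four_type⟩

end Cfsg.Lib.M24Rec
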