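import Cfsg.Agent.M24Rec.Count
import Cfsg.Agent.M23Rec.Model

/-!
An involution of the centraliser of a member of the model of type M(23), centralised there by as much as a
neighbouring member, is such a member or its product with the first.
-/

set_option autoImplicit false
set_option linter.unusedSectionVars false
set_option linter.style.haveILetI false
set_option maxRecDepth 20000

namespace Cfsg.Lib.M24Rec

open Cfsg Subgroup Cfsg.Lib.ThreeTr

attribute [local instance] _root_.Classical.propDecidable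
open Cfsg.Lib.M23Rec (Fj zz D0 P0 H23 h23 zz_mem zz_sq mem_H P0_le invol_form perp_lists)

attribute [local irreducible] FiTwenty.sig0 FiTwenty.sig1 FiTwenty.sig2 FiTwenty.sig3 FiTwenty.sig4 FiTwenty.sig5
  FiTwenty.sig6 FiTwenty.sig7 FiTwenty.sig8 FiTwenty.sig9 FiTwenty.sig10 FiTwenty.subPts FiTwenty.subIdx
  FiTwenty.subTree1Mask FiTwenty.subTree2Mask

theorem zz_comm_list {l : List Fj} (hm : ∀ x ∈ l, x ∈ P0) : Commute zz l.prod :=
  Commute.list_prod_right _ _ fun x hx => (hm x hx).2.2

theorem lift_form {u v : Fj} (hu : u ∈ P0) (hv : v ∈ H23) (hv2 : v * v = 1) (hv1 : v ≠ 1) (hvz : v ≠ zz)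
    (hcard : Nat.card ↥(centralizer ({zz, v} : Set Fj)) = Nat.card ↥(centralizer ({zz, u} : Set Fj))) :
    v ∈ P0 ∨ ∃ u' ∈ P0, v = zz * u' := by
  haveI := Cfsg.Lib.M23Rec.finite_fj
  obtain ⟨l, hl, hm, h1, h3, hv⟩ := invol_form hv hv2 hv1 hvz
  have hsame : centralizer ({zz, v} : Set Fj) = centralizer ({l.prod} : Set Fj) ⊓ centralizer ({zz} : Set Fj) := by
    ext g
    rw [mem_cent₂, mem_inf, mem_centralizer_singleton_iff, mem_centralizer_singleton_iff]
    rcases hv with rfl | rfl
    · exact ⟨fun k => ⟨k.2.eq, k.1.eq⟩, fun k => ⟨k.2, k.1⟩⟩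
    · refine ⟨fun k => ⟨?_, k.1.eq⟩, fun k => ⟨k.2, (show Commute g zz from k.2).mul_right k.1⟩⟩
      have := k.1.mul_right k.2
      rwa [← mul_assoc, zz_sq, one_mul] at this
  have hpos : 0 < Nat.card ↥(centralizer ({zz, u} : Set Fj)) := Nat.card_pos
  rw [hsame] at hcard
  match l, h1, h3 with
  | [a], _, _ =>
    rcases hv with rfl | rfl
    · exact Or.inl (by simpa using hm a (by simp))
    · exact Or.inr ⟨a, hm a (by simp), by simp⟩
  | [a, b], _, _ =>
    exfalso
    have hab : b ∈ perp D0 a := hl.of_cons.2 b (by simp)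
    have hb := hm b (by simp)
    have h2 := orbit_large h23 zz_mem (hm a (by simp)) hb.1 hb.2.1 (fun e => hab.2.1 e)
    rw [card_cent_pair h23 zz_mem hu zz_mem (hm a (by simp))] at h2
    have h4 : Nat.card ↥(centralizer ({[a, b].prod} : Set Fj) ⊓ centralizer ({zz} : Set Fj)) ≤
        2 * Nat.card ↥(centralizer ({zz, a, b} : Set Fj)) := by
      refine (card_le_mul {a, b} (fun g => g * a * g⁻¹) (fun g hg => ?_) fun g hg k hk e => ?_).trans
        (Nat.mul_le_mul_right _ Finset.card_le_two)
      · have hc : Commute g (a * b) := by simpa [Commute, SemiconjBy] using mem_centralizer_singleton_iff.1 hg.1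
        rcases pair_perm h23 (hm a (by simp)).1 hab hc with e | e <;> simp [e.1]
      · have hgk := (centralizer ({[a, b].prod} : Set Fj)).mul_mem
          ((centralizer ({[a, b].prod} : Set Fj)).inv_mem hg.1) hk.1
        have hgz := (centralizer ({zz} : Set Fj)).mul_mem ((centralizer ({zz} : Set Fj)).inv_mem hg.2) hk.2
        have hc : Commute (g⁻¹ * k) (a * b) := by
          simpa [Commute, SemiconjBy] using mem_centralizer_singleton_iff.1 hgk
        have c1 := commute_of_conj_eq e
        refine mem_cent₃.2 ⟨mem_centralizer_singleton_iff.1 hgz, c1, ?_⟩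
        rcases pair_perm h23 (hm a (by simp)).1 hab hc with e' | e'
        · exact conj_fixed_iff.1 e'.2
        · exact absurd (e'.1.symm.trans (conj_fixed_iff.2 c1)) hab.2.1
    omega
  | [a, b, c], _, _ =>
    exfalso
    have hb := hm b (by simp)
    have hab : b ∈ perp D0 a := hl.of_cons.2 b (by simp)
    have h2 := orbit_large h23 zz_mem (hm a (by simp)) hb.1 hb.2.1 hab.2.1
    rw [card_cent_pair h23 zz_mem hu zz_mem (hm a (by simp))] at h2
    have h4 := cent_triple_le h23 hl (centralizer ({zz} : Set Fj))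
    have h5 : Nat.card ↥(centralizer ({a, b, c} : Set Fj) ⊓ centralizer ({zz} : Set Fj)) ≤
        Nat.card ↥(centralizer ({zz, a, b} : Set Fj)) := Subgroup.card_le_of_le fun g hg =>
      mem_cent₃.2 ⟨mem_centralizer_singleton_iff.1 hg.2, (mem_cent₃.1 hg.1).1, (mem_cent₃.1 hg.1).2.1⟩
    simp only [List.prod_cons, List.prod_nil, mul_one] at hcard
    omega

end Cfsg.Lib.M24Rec
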