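import Cfsg.Agent.M24Rec.Model
import Cfsg.Agent.M24Rec.Lifts

/-!
A finite group with a subgroup of index two and an outer involution whose centraliser in it is the group of type
M(23): the centraliser of the involution is that of a member of the model, and the conjugates commuting with the
involution are exactly the images of the members near that one.
-/

set_option autoImplicit false
set_option linter.unusedSectionVars false
set_option linter.style.haveILetI false
set_option maxRecDepth 100000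

namespace Cfsg.Lib.M24Rec

open Cfsg Subgroup Cfsg.Lib.ThreeTr Cfsg.Lib.CosetCert
open Cfsg.Lib.M23Rec (Fj zz D0 P0 H23 h23 zz_mem zz_sq mem_H P0_le P0_conj perp_lists)

attribute [local irreducible] FiFour.rowF FiFour.sevF FiFour.lonF FiFour.blkMask
attribute [local irreducible] FiTwenty.sig0 FiTwenty.sig1 FiTwenty.sig2 FiTwenty.sig3 FiTwenty.sig4 FiTwenty.sig5
  FiTwenty.sig6 FiTwenty.sig7 FiTwenty.sig8 FiTwenty.sig9 FiTwenty.sig10 FiTwenty.subPts FiTwenty.subIdx
  FiTwenty.subTree1Mask FiTwenty.subTree2Mask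

universe u

/-- The configuration of an outer involution. -/
structure Setting {X : Type u} [Group X] (G₀ : Subgroup X) (d : X) (θ₀ : Fj →* X) : Prop where
  idx : G₀.index = 2
  sq : d * d = 1
  out : d ∉ G₀
  inj : Function.Injective θ₀
  even : ∀ y, θ₀ y ∈ G₀
  comm : ∀ y, Commute d (θ₀ y)
  onto : ∀ g ∈ G₀, Commute g d → ∃ y, θ₀ y = g
  exch : ∃ x ∈ G₀, Commute x (θ₀ zz) ∧ x * d * x⁻¹ = d * θ₀ zz
  orbit : ∀ g ∈ G₀, Commute g (θ₀ zz) → g * d * g⁻¹ = d ∨ g * d * g⁻¹ = d * θ₀ zz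
  cent : ∀ g ∈ G₀, Commute g (θ₀ zz) → (∀ y ∈ H23, Commute g (θ₀ y)) → Commute g d

namespace Setting

variable {X : Type u} [Group X] {G₀ : Subgroup X} {d : X} {θ₀ : Fj →* X} (h : Setting G₀ d θ₀)
include h

theorem normal : G₀.Normal := Subgroup.normal_of_index_eq_two h.idx

theorem inv_d : d⁻¹ = d := inv_eq_of_mul_eq_one_right h.sq

theorem out_conj (g : X) : g * d * g⁻¹ ∉ G₀ := fun k => h.out (by
  have := h.normal.conj_mem _ k g⁻¹
  simpa [mul_assoc] using this)

theorem mul_out {a b : X} (ha : a ∉ G₀) (hb : b ∉ G₀) : a * b ∈ G₀ :=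
  (Subgroup.mul_mem_iff_of_index_two h.idx).2 (iff_of_false ha hb)

/-- Every element is inner up to the involution. -/
theorem inner_form (g : X) : g ∈ G₀ ∨ ∃ g' ∈ G₀, g = g' * d := by
  by_cases hg : g ∈ G₀
  · exact Or.inl hg
  · exact Or.inr ⟨g * d, h.mul_out hg h.out, by rw [mul_assoc, h.sq, mul_one]⟩

theorem exists_inner {e : X} (he : e ∈ conjugatesOf d) : ∃ g ∈ G₀, g * d * g⁻¹ = e := by
  obtain ⟨g, rfl⟩ := isConj_iff.1 (show IsConj d e from he)
  rcases h.inner_form g with hg | ⟨g', hg', rfl⟩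
  · exact ⟨g, hg, rfl⟩
  · exact ⟨g', hg', by rw [mul_inv_rev, h.inv_d]; simp only [← mul_assoc, mul_assoc g' d d, h.sq, mul_one]⟩

theorem dt_mem : d * θ₀ zz ∈ conjugatesOf d := by
  obtain ⟨x, -, -, hx⟩ := h.exch
  exact hx ▸ isConj_iff.2 ⟨x, rfl⟩

/-- The centraliser of a member of the model in the group. -/
noncomputable def theta : CM →* X :=
  MonoidHom.mk' (fun k => (if FiFour.chi k.1 = 1 then 1 else d) * θ₀ (FiFour.down k)) fun a b => by
    rw [coe_mul, map_mul, map_mul, map_mul]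
    rcases Int.units_eq_one_or (FiFour.chi a.1) with ha | ha <;>
      rcases Int.units_eq_one_or (FiFour.chi b.1) with hb | hb <;> rw [ha, hb]
    · simp
    · simp only [one_mul, if_pos, show ((-1 : ℤˣ) = 1) ↔ False from iff_false_intro (by decide), if_false]
      rw [← mul_assoc, ← mul_assoc, (h.comm (FiFour.down a)).eq]
    · simp only [mul_one, if_pos, show ((-1 : ℤˣ) = 1) ↔ False from iff_false_intro (by decide), if_false, one_mul,
        mul_assoc]
    · simp only [show ((-1 : ℤˣ) * -1) = 1 from by decide, if_pos,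
        show ((-1 : ℤˣ) = 1) ↔ False from iff_false_intro (by decide), if_false, one_mul]
      rw [mul_assoc, ← mul_assoc (θ₀ (FiFour.down a)), ← (h.comm (FiFour.down a)).eq, ← mul_assoc, ← mul_assoc,
        h.sq, one_mul]

theorem theta_even {k : CM} (hk : FiFour.chi k.1 = 1) : h.theta k = θ₀ (FiFour.down k) := by
  show (if FiFour.chi k.1 = 1 then (1 : X) else d) * _ = _
  rw [if_pos hk, one_mul]

theorem theta_odd {k : CM} (hk : FiFour.chi k.1 = -1) : h.theta k = d * θ₀ (FiFour.down k) := by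
  show (if FiFour.chi k.1 = 1 then (1 : X) else d) * _ = _
  rw [if_neg (by rw [hk]; decide)]

theorem theta_ll : h.theta ⟨ll, ll_CM⟩ = d := by
  rw [h.theta_odd (k := ⟨ll, ll_CM⟩) (FiFour.chi_transp ll_mem), down_ll, map_one, mul_one]

theorem theta_inj : Function.Injective h.theta := by
  rw [injective_iff_map_eq_one]
  intro k hk
  rcases Int.units_eq_one_or (FiFour.chi k.1) with e | e
  · rw [h.theta_even e] at hk
    exact down_kernel e (h.inj (hk.trans (map_one _).symm))
  · rw [h.theta_odd e] at hk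
    refine absurd ?_ h.out
    rw [eq_inv_of_mul_eq_one_left hk]
    exact inv_mem (h.even _)

theorem theta_comm (k : CM) : Commute d (h.theta k) := by
  rcases Int.units_eq_one_or (FiFour.chi k.1) with e | e
  · rw [h.theta_even e]; exact h.comm _
  · rw [h.theta_odd e]; exact (Commute.refl d).mul_right (h.comm _)

theorem theta_onto {g : X} (hg : Commute g d) : ∃ k : CM, h.theta k = g := by
  rcases h.inner_form g with hi | ⟨g', hg', rfl⟩
  · obtain ⟨y, rfl⟩ := h.onto g hi hg
    obtain ⟨k, rfl, hk⟩ := exists_lift y 1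
    exact ⟨k, h.theta_even hk⟩
  · have : Commute g' d := by
      have := hg.mul_left (Commute.refl d)
      rwa [mul_assoc, h.sq, mul_one] at this
    obtain ⟨y, rfl⟩ := h.onto g' hg' this
    obtain ⟨k, rfl, hk⟩ := exists_lift y (-1)
    exact ⟨k, by rw [h.theta_odd hk, (h.comm _).eq]⟩

theorem theta_out {k : CM} : h.theta k ∈ G₀ ↔ FiFour.chi k.1 = 1 := by
  constructor
  · intro hk
    rcases Int.units_eq_one_or (FiFour.chi k.1) with e | e
    · exact e
    · rw [h.theta_odd e] at hk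
      exact absurd ((mul_mem_cancel_right (h.even _)).1 hk) h.out
  · intro e
    rw [h.theta_even e]
    exact h.even _

theorem dz_mem {z : Fj} (hz : z ∈ D0) : d * θ₀ z ∈ perp (conjugatesOf d) d := by
  refine ⟨?_, fun e => ?_, (Commute.refl d).mul_right (h.comm z)⟩
  · obtain ⟨g, rfl⟩ := isConj_iff.1 (show IsConj zz z from hz)
    refine IsConj.trans h.dt_mem (isConj_iff.2 ⟨θ₀ g, ?_⟩)
    rw [map_mul, map_mul, map_inv, ← mul_assoc (θ₀ g), ← (h.comm g).eq]
    group
  · have h1 : z = 1 := h.inj (by rw [map_one]; exact mul_eq_left.1 e)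
    haveI := Cfsg.Lib.M23Rec.finite_fj
    have := h23.cls.1.1 z hz
    rw [h1, orderOf_one] at this
    norm_num at this

theorem theta_perp {v : CM} (hv : v.1 ∈ perp E0 ll) : h.theta v ∈ perp (conjugatesOf d) d := by
  rw [h.theta_odd (perp_chi hv)]
  exact h.dz_mem (down_perp hv)

variable [Finite X]

/-- No conjugate is the involution times a product of two commuting members. -/
theorem no_pair_base {u : Fj} (hu : u ∈ P0) : d * θ₀ (zz * u) ∉ conjugatesOf d := by
  intro he
  haveI := Cfsg.Lib.M23Rec.finite_fj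
  have hE := h23.cls.1
  have hu2 := sq_eq_one hE hu.1
  set y := zz * u with hy
  have hyy : y * y = 1 := by
    rw [hy, (show Commute zz u from hu.2.2).symm.mul_mul_mul_comm, zz_sq, hu2, one_mul]
  have hy1 : y ≠ 1 := fun e => hu.2.1 (by
    have e' := eq_inv_of_mul_eq_one_right e
    rwa [inv_eq hE zz_mem] at e')
  obtain ⟨g, hg, hge⟩ := h.exists_inner he
  set θe : Fj →* X := (MulAut.conj g).toMonoidHom.comp θ₀ with hθe
  have hθv : ∀ a, θe a = g * θ₀ a * g⁻¹ := fun _ => rfl
  have hinj : Function.Injective θe := (MulAut.conj g).injective.comp h.inj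
  have hon : ∀ k ∈ G₀, Commute k (d * θ₀ y) → ∃ a, θe a = k := by
    intro k hk hc
    obtain ⟨a, ha⟩ := h.onto (g⁻¹ * k * g) (mul_mem (mul_mem (inv_mem hg) hk) hg) (by
      have := hc.map (MulAut.conj g⁻¹)
      simp only [MulAut.conj_apply, inv_inv] at this
      rwa [← hge, show g⁻¹ * (g * d * g⁻¹) * g = d by group] at this)
    exact ⟨a, by rw [hθv, ha]; group⟩
  have hin : ∀ a, θe a ∈ G₀ := fun a => mul_mem (mul_mem hg (h.even a)) (inv_mem hg)
  have hcomm : ∀ a, Commute (d * θ₀ y) (θe a) := fun a => by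
    rw [← hge]; exact (h.comm a).map (MulAut.conj g)
  obtain ⟨y', hy'⟩ := hon (θ₀ y) (h.even y) ((h.comm y).symm.mul_right (Commute.refl _))
  obtain ⟨t', ht'⟩ := hon (θ₀ zz) (h.even zz) ((h.comm zz).symm.mul_right ((Commute.refl zz).mul_right
    (show Commute zz u from hu.2.2) |>.map θ₀))
  have hmap : ∀ S : Subgroup Fj, (∀ a ∈ S, Commute a y) →
      ((S.map θ₀).comap θe).map θe = S.map θ₀ := by
    intro S hS
    refine map_comap_eq_self ?_
    rintro _ ⟨a, ha, rfl⟩
    obtain ⟨b, hb⟩ := hon _ (h.even a) ((h.comm a).symm.mul_right ((hS a ha).map θ₀))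
    exact ⟨b, hb⟩
  have hcardJ : ∀ S : Subgroup Fj, (∀ a ∈ S, Commute a y) →
      Nat.card ↥((S.map θ₀).comap θe) = Nat.card S := fun S hS => by
    rw [← card_map_of_injective (K := (S.map θ₀).comap θe) hinj, hmap S hS, card_map_of_injective h.inj]
  have hy'2 : orderOf y' = 2 := by
    rw [← orderOf_injective θe hinj, hy', orderOf_injective θ₀ h.inj]
    exact orderOf_eq_prime (by rw [pow_two, hyy]) hy1
  have hcy : Nat.card ↥(centralizer ({y'} : Set Fj)) = Nat.card ↥(centralizer ({y} : Set Fj)) := by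
    rw [← hcardJ _ fun a ha => mem_centralizer_singleton_iff.1 ha]
    refine congrArg (fun S : Subgroup Fj => Nat.card S) ?_
    ext a
    rw [mem_comap, mem_centralizer_singleton_iff]
    constructor
    · intro ha
      have h1 : Commute (θe a) (θ₀ y) := by
        rw [← hy']; exact (show Commute a y' from ha).map θe
      obtain ⟨b, hb⟩ := h.onto _ (hin a) (by
        have := (hcomm a).symm.mul_right h1
        rwa [mul_assoc, ← map_mul, hyy, map_one, mul_one] at this)
      refine ⟨b, mem_centralizer_singleton_iff.2 (h.inj ?_), hb⟩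
      rw [map_mul θ₀ b, map_mul θ₀ y, hb]
      exact h1.eq
    · rintro ⟨b, hb, hba⟩
      refine hinj ?_
      rw [map_mul, map_mul, hy', ← hba, ← map_mul, ← map_mul, mem_centralizer_singleton_iff.1 hb]
  obtain ⟨a, b, ha, hb, rfl⟩ := form_two h23 hy'2 zz_mem hu hcy
  have htne : t' ≠ a * b := fun e => by
    have e1 : θ₀ zz = θ₀ y := by rw [← ht', ← hy', e]
    have e2 : u = 1 := mul_eq_left.1 (h.inj e1).symm
    have := hE.1 u hu.1
    rw [e2, orderOf_one] at this
    norm_num at this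
  have ht2 : orderOf t' = 2 := by
    rw [← orderOf_injective θe hinj, ht', orderOf_injective θ₀ h.inj]
    exact hE.1 zz zz_mem
  have hpc : ∀ c ∈ centralizer ({zz, u} : Set Fj), Commute c y := fun c hc =>
    (mem_cent₂.1 hc).1.mul_right (mem_cent₂.1 hc).2
  have htD : t' ∈ D0 := by
    rcases mem_pair h23 ha hb ht2 htne (((centralizer ({zz, u} : Set Fj)).map θ₀).comap θe) (fun c hc => by
      obtain ⟨c0, hc0, e⟩ := hc
      refine ⟨hinj ?_, hinj ?_⟩
      · rw [map_mul, map_mul, ht', ← e, ← map_mul, ← map_mul, (mem_cent₂.1 hc0).1.eq]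
      · rw [map_mul θe c, map_mul θe (a * b), hy', ← e, ← map_mul, ← map_mul, (hpc c0 hc0).eq])
      (by rw [hcardJ _ hpc]; exact (card_cent_pair h23 zz_mem hu ha hb).le) with e | e
    · exact e ▸ ha
    · exact e ▸ hb.1
  obtain ⟨k, rfl⟩ := isConj_iff.1 (show IsConj zz t' from htD)
  have hgt : Commute (g * θ₀ k) (θ₀ zz) := conj_fixed_iff.1 (by
    conv_rhs => rw [← ht', hθv, map_mul, map_mul, map_inv]
    group)
  have hgd : g * θ₀ k * d * (g * θ₀ k)⁻¹ = d * θ₀ y := by
    rw [mul_inv_rev, mul_assoc g, ← (h.comm k).eq, ← hge]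
    group
  rcases h.orbit _ (mul_mem hg (h.even k)) hgt with e | e <;> rw [hgd] at e
  · exact hy1 (h.inj (by rw [map_one]; exact mul_eq_left.1 e))
  · have e2 : u = 1 := mul_eq_left.1 (h.inj (mul_left_cancel e))
    have := hE.1 u hu.1
    rw [e2, orderOf_one] at this
    norm_num at this

theorem no_pair {a b : Fj} (ha : a ∈ D0) (hb : b ∈ perp D0 a) : d * θ₀ (a * b) ∉ conjugatesOf d := by
  intro he
  haveI := Cfsg.Lib.M23Rec.finite_fj
  obtain ⟨k, rfl⟩ := isConj_iff.1 (show IsConj zz a from ha)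
  have hb' : k⁻¹ * b * k ∈ P0 := by
    refine ⟨by simpa using ThreeTr.conj_mem h23.cls k⁻¹ hb.1, fun e => hb.2.1 ?_, ?_⟩
    · rw [← e]; group
    · have := hb.2.2.map (MulAut.conj k⁻¹)
      simp only [MulAut.conj_apply, inv_inv] at this
      rwa [show k⁻¹ * (k * zz * k⁻¹) * k = zz by group] at this
  refine h.no_pair_base hb' ?_
  refine IsConj.trans he (isConj_iff.2 ⟨(θ₀ k)⁻¹, ?_⟩)
  rw [inv_inv, ← mul_assoc, ← (h.comm k).inv_right.eq]
  simp only [map_mul, map_inv]
  group

/-- No conjugate is the involution times a product of three commuting members. -/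
theorem no_triple {a b c : Fj} (hl : CList D0 [a, b, c]) : d * θ₀ (a * (b * c)) ∉ conjugatesOf d := by
  intro he
  haveI := Cfsg.Lib.M23Rec.finite_fj
  obtain ⟨k, rfl⟩ := isConj_iff.1 (show IsConj zz a from hl.mem a (by simp))
  have hl' := hl.map_conj h23.cls k⁻¹
  simp only [List.map_cons, List.map_nil, inv_inv, show k⁻¹ * (k * zz * k⁻¹) * k = zz by group] at hl'
  set u := k⁻¹ * b * k
  set w := k⁻¹ * c * k
  have hu : u ∈ P0 := hl'.of_cons.2 u (by simp)
  have hw : w ∈ P0 := hl'.of_cons.2 w (by simp)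
  have huw : w ∈ perp D0 u := hl'.of_cons.1.of_cons.2 w (by simp)
  have he1 : d * θ₀ (zz * (u * w)) ∈ conjugatesOf d := by
    refine IsConj.trans he (isConj_iff.2 ⟨(θ₀ k)⁻¹, ?_⟩)
    rw [inv_inv, ← mul_assoc, ← (h.comm k).inv_right.eq]
    simp only [u, w, map_mul, map_inv]
    group
  obtain ⟨x, hx, hxt, hxd⟩ := h.exch
  have hxd' : x⁻¹ * d * x⁻¹⁻¹ = d * θ₀ zz := by
    refine (h.orbit x⁻¹ (inv_mem hx) hxt.inv_left).resolve_left fun e => ?_
    have h1 : Commute x d := by simpa using (conj_fixed_iff.1 e).inv_left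
    rw [conj_fixed_iff.2 h1] at hxd
    exact FiTwenty.z_ne (h.inj (by rw [map_one]; exact (mul_eq_left.1 hxd.symm)))
  have hnorm : ∀ v ∈ H23, ∃ a ∈ H23, θ₀ a = x * θ₀ v * x⁻¹ := by
    intro v hv
    have c1 : Commute (θ₀ v) (θ₀ zz) := (mem_H.1 hv).map θ₀
    have c2 := c1.map (MulAut.conj x)
    simp only [MulAut.conj_apply, conj_fixed_iff.2 hxt] at c2
    have c3 : Commute (x * θ₀ v * x⁻¹) (d * θ₀ zz) := by
      rw [← hxd]
      exact (h.comm v).symm.map (MulAut.conj x)
    obtain ⟨a, ha⟩ := h.onto (x * θ₀ v * x⁻¹) (mul_mem (mul_mem hx (h.even v)) (inv_mem hx)) (by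
      have := c3.mul_right c2
      rwa [mul_assoc d, ← map_mul, zz_sq, map_one, mul_one] at this)
    exact ⟨a, mem_H.2 (h.inj (by rw [map_mul, map_mul, ha]; exact c2.eq)), ha⟩
  obtain ⟨u', hu'H, hu'⟩ := hnorm u (P0_le hu)
  obtain ⟨w', hw'H, hw'⟩ := hnorm w (P0_le hw)
  have he2 : d * θ₀ (u' * w') ∈ conjugatesOf d := by
    refine IsConj.trans he1 (isConj_iff.2 ⟨x, ?_⟩)
    rw [map_mul θ₀ u', hu', hw', map_mul, map_mul,
      show x * (d * (θ₀ zz * (θ₀ u * θ₀ w))) * x⁻¹ =
        x * d * x⁻¹ * (x * θ₀ zz * x⁻¹) * (x * θ₀ u * x⁻¹ * (x * θ₀ w * x⁻¹)) by group,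
      hxd, conj_fixed_iff.2 hxt, mul_assoc d, ← map_mul, zz_sq, map_one, mul_one]
  have hc : Commute u' w' := h.inj (by
    rw [map_mul, map_mul, hu', hw']
    exact ((show Commute u w from huw.2.2).map θ₀).map (MulAut.conj x))
  have hne : w' ≠ u' := fun e => huw.2.1 (h.inj (mul_left_cancel (mul_right_cancel (by rw [← hu', ← hw', e]))))
  have hu2 : u' * u' = 1 := h.inj (by
    rw [map_mul, hu', map_one, show x * θ₀ u * x⁻¹ * (x * θ₀ u * x⁻¹) = x * (θ₀ u * θ₀ u) * x⁻¹ by group, ← map_mul,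
      sq_eq_one h23.cls.1 hu.1, map_one, mul_one, mul_inv_cancel])
  have hu1 : u' ≠ 1 := fun e => by
    have h1 : u = 1 := h.inj (by
      rw [e, map_one] at hu'
      rw [map_one]
      exact (mul_eq_left.1 (mul_inv_eq_one.1 hu'.symm)))
    have := h23.cls.1.1 u hu.1
    rw [h1, orderOf_one] at this
    norm_num at this
  have huz : u' ≠ zz := fun e => hu.2.1 (h.inj (by
    refine mul_left_cancel (a := x) (mul_right_cancel (b := x⁻¹) ?_)
    rw [← hu', e, conj_fixed_iff.2 hxt]))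
  -- the centraliser of the image
  have hcard : Nat.card ↥(centralizer ({zz, u'} : Set Fj)) = Nat.card ↥(centralizer ({zz, u} : Set Fj)) := by
    rw [← card_map_of_injective (K := centralizer ({zz, u'} : Set Fj)) h.inj,
      ← card_map_of_injective (K := centralizer ({zz, u} : Set Fj)) h.inj,
      ← card_map_of_injective (K := (centralizer ({zz, u} : Set Fj)).map θ₀) (f := (MulAut.conj x).toMonoidHom)
        (MulAut.conj x).injective]
    refine congrArg (fun S : Subgroup X => Nat.card S) ?_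
    ext g
    constructor
    · rintro ⟨a, ha, rfl⟩
      obtain ⟨ha1, ha2⟩ := mem_cent₂.1 ha
      have c1 : Commute (θ₀ a) (θ₀ zz) := ha1.map θ₀
      have c3 : Commute (x⁻¹ * θ₀ a * x⁻¹⁻¹) (θ₀ zz) := by
        have := c1.map (MulAut.conj x⁻¹)
        simp only [MulAut.conj_apply, conj_fixed_iff.2 hxt.inv_left] at this
        exact this
      obtain ⟨b, hb⟩ := h.onto (x⁻¹ * θ₀ a * x⁻¹⁻¹) (mul_mem (mul_mem (inv_mem hx) (h.even a)) (by simpa using hx)) (by
        have e := ((h.comm a).symm.map (MulAut.conj x⁻¹))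
        simp only [MulAut.conj_apply] at e
        rw [hxd'] at e
        have := e.mul_right c3
        rwa [mul_assoc d, ← map_mul, zz_sq, map_one, mul_one] at this)
      refine ⟨θ₀ b, ⟨b, mem_cent₂.2 ⟨h.inj (by rw [map_mul, map_mul, hb]; exact c3.eq), h.inj ?_⟩, rfl⟩, ?_⟩
      · rw [map_mul θ₀ b, map_mul θ₀ u, hb]
        have := (ha2.map θ₀).map (MulAut.conj x⁻¹)
        simp only [MulAut.conj_apply, hu'] at this
        rw [show x⁻¹ * (x * θ₀ u * x⁻¹) * x⁻¹⁻¹ = θ₀ u by group] at this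
        exact this.eq
      · show x * θ₀ b * x⁻¹ = _
        rw [hb]; group
    · rintro ⟨_, ⟨b, hb, rfl⟩, rfl⟩
      obtain ⟨a, haH, ha⟩ := hnorm b (mem_H.2 (mem_cent₂.1 hb).1)
      refine ⟨a, mem_cent₂.2 ⟨mem_H.1 haH, h.inj ?_⟩, ha⟩
      rw [map_mul, map_mul, ha, hu']
      exact (((mem_cent₂.1 hb).2.map θ₀).map (MulAut.conj x)).eq
  -- the two lifts have one form
  obtain ⟨k', hk', hk'e⟩ := perp_lists (l := [u]) (l' := [w])
    ⟨List.nodup_singleton u, by simp [hu.1], by simp⟩ ⟨List.nodup_singleton w, by simp [hw.1], by simp⟩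
    (by simp [hu]) (by simp [hw]) rfl (by simp)
  have hwk : w = k' * u * k'⁻¹ := by simpa using hk'e
  obtain ⟨k'', hk''H, hk''⟩ := hnorm k' hk'
  have hwe : w' = k'' * u' * k''⁻¹ := h.inj (by
    rw [hw', hwk, map_mul θ₀ (k'' * u'), map_mul θ₀ k'', map_inv θ₀ k'', hk'', hu']
    simp only [map_mul, map_inv]
    group)
  rcases lift_form hu hu'H hu2 hu1 huz hcard with hP | ⟨u'', hP, rfl⟩
  · have hwP : w' ∈ P0 := hwe ▸ P0_conj hk''H hP
    exact h.no_pair hP.1 ⟨hwP.1, hne, hc⟩ he2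
  · have hwP : k'' * u'' * k''⁻¹ ∈ P0 := P0_conj hk''H hP
    have hzk : Commute k'' zz := mem_H.1 hk''H
    have hwz : w' = zz * (k'' * u'' * k''⁻¹) := by
      rw [hwe, ← mul_assoc k'', hzk.eq]
      group
    have e : zz * u'' * w' = u'' * (k'' * u'' * k''⁻¹) := by
      rw [hwz, (show Commute zz u'' from hP.2.2).eq, mul_assoc u'', ← mul_assoc zz, zz_sq, one_mul]
    rw [e] at he2
    refine h.no_pair hP.1 ⟨hwP.1, fun e' => hne (by rw [hwz, e']), ?_⟩ he2
    have c : Commute (zz * u'') (zz * (k'' * u'' * k''⁻¹)) := hwz ▸ hc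
    have z1 : Commute zz u'' := hP.2.2
    have z2 : Commute zz (k'' * u'' * k''⁻¹) := hwP.2.2
    show u'' * (k'' * u'' * k''⁻¹) = k'' * u'' * k''⁻¹ * u''
    have c' : zz * u'' * (zz * (k'' * u'' * k''⁻¹)) = zz * (k'' * u'' * k''⁻¹) * (zz * u'') := c.eq
    rw [z1.symm.mul_mul_mul_comm, z2.symm.mul_mul_mul_comm, zz_sq, one_mul, one_mul] at c'
    exact c'

/-- The conjugates near the involution are the images of the members near the distinguished one. -/
theorem perp_form {e : X} (he : e ∈ perp (conjugatesOf d) d) :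
    ∃ v : CM, v.1 ∈ perp E0 ll ∧ h.theta v = e := by
  haveI := Cfsg.Lib.M23Rec.finite_fj
  obtain ⟨hD, hne, hc⟩ := he
  obtain ⟨g, hg⟩ := isConj_iff.1 (show IsConj d e from hD)
  have hin : d * e ∈ G₀ := h.mul_out h.out (hg ▸ h.out_conj g)
  obtain ⟨y, hy⟩ := h.onto (d * e) hin ((Commute.refl d).mul_left hc.symm)
  have hey : e = d * θ₀ y := by rw [hy, ← mul_assoc, h.sq, one_mul]
  have hee : e * e = 1 := by
    rw [← hg, show g * d * g⁻¹ * (g * d * g⁻¹) = g * (d * d) * g⁻¹ by group, h.sq, mul_one, mul_inv_cancel]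
  have hy2 : orderOf y = 2 := by
    rw [← orderOf_injective θ₀ h.inj, hy]
    refine orderOf_eq_prime (by rw [pow_two, hc.symm.mul_mul_mul_comm, h.sq, hee, one_mul]) fun k => hne ?_
    rw [eq_inv_of_mul_eq_one_right k, h.inv_d]
  obtain ⟨l, hl, h1, h3, rfl⟩ := h23.invForm y hy2
  match l, h1, h3 with
  | [a], _, _ =>
    obtain ⟨v, hv, hva⟩ := exists_perp (hl.mem a (by simp))
    exact ⟨v, hv, by rw [h.theta_odd (perp_chi hv), hva, hey]; simp⟩
  | [a, b], _, _ =>
    exfalso
    refine h.no_pair (hl.mem a (by simp)) (hl.of_cons.2 b (by simp)) ?_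
    rw [hey] at hD
    simpa using hD
  | [a, b, c], _, _ =>
    exfalso
    refine h.no_triple hl ?_
    rw [hey] at hD
    simpa using hD

end Setting

end Cfsg.Lib.M24Rec
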