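import Cfsg.Agent.LargeFischer.OuterPairMain
import Cfsg.Agent.M24Rec.Setting

/-!
In a group of large Fischer type extended by an outer involution, the outer involution with its centraliser, identified
with the group of type M(23), forms such a configuration.
-/

set_option autoImplicit false
set_option maxRecDepth 100000
set_option maxHeartbeats 1000000
set_option linter.unusedSectionVars false
set_option linter.style.haveILetI false

namespace Cfsg.Lib.LargeFischer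

open Subgroup
open Cfsg.Lib.M23Rec (Fj zz H23 mem_H)

universe u

variable {X : Type u} [Group X] [Finite X] {G₀ : Subgroup X} {z : ↥G₀}
  {Q : Subgroup (centralizer ({z} : Set ↥G₀))} [Q.Normal]

/-- The configuration. -/
theorem outer_setting (hCore : Cfsg.Lib.USixType.CoreGoal.{u}) (hidx : G₀.index = 2)
    (hF : Cfsg.IsOfLargeFischerTypeAt z Q)
    (hcentral : ∃ P : Sylow 2 ↥G₀, z ∈ (P : Subgroup ↥G₀) ∧ ∀ x ∈ (P : Subgroup ↥G₀), Commute x z)
    (hFX : (Cfsg.generalizedFittingSubgroup ↥(centralizer ({(z : X)} : Set X))).map (Subgroup.subtype _) =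
      ((Q.map (Subgroup.subtype _)).map G₀.subtype)) :
    ∃ (d : X) (θ₀ : Fj →* X), Cfsg.Lib.M24Rec.Setting G₀ d θ₀ := by
  haveI : Fact (Nat.Prime 2) := ⟨Nat.prime_two⟩
  have hord : orderOf z = 2 := hF.1.1
  obtain ⟨hCX, hNX⟩ := qx_setting hF hFX
  obtain ⟨c, L, P, k, m, ⟨hta, htb⟩, hm, hne, hcom⟩ := Ctx.exists_four_placed hF
  obtain ⟨e⟩ := L.bar_unitary hCore hm hne hcom
  obtain ⟨τ, q, ⟨r, hr⟩, hqb, hqτ⟩ := L.exists_outer
  obtain ⟨g0, hg0, hg02⟩ := L.exists_flip P k hta htb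
  obtain ⟨K, hK⟩ := L.outer_core e τ q hqb hqτ hg0 hg02
  obtain ⟨x, hx, hxa⟩ := exists_outer_fix hidx L hord hcentral hNX
  obtain ⟨d, hd, hdG, hdz, hiff⟩ := exists_transp hidx L hx hxa hNX hCX hqb hK
    ⟨_, ⟨_, r.2, rfl⟩, by rw [← hr]; rfl⟩
  obtain ⟨g1, hg1d, hg1a, hg1c⟩ := exists_mover hidx L e (L.exists_rot hF) hd hdG hK hiff
  haveI hn : G₀.Normal := Subgroup.normal_of_index_eq_two hidx
  haveI hKn : K.Normal := Subgroup.normal_of_index_eq_two hK.index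
  have haY : L.ga ∈ L.Y := mem_centralizer_singleton_iff.mpr rfl
  have haK : (⟨L.ga, haY⟩ : ↥L.Y) ∈ K := hK.mem _ (L.E_le_C L.a_mem)
  have had : d * (L.ga : X) = (L.ga : X) * d := (hiff ⟨_, haY⟩).mp haK
  let t : ↥(G₀ ⊓ centralizer ({d} : Set X)) :=
    ⟨(L.ga : X), L.ga.2, mem_centralizer_singleton_iff.mpr had.symm⟩
  have ht : orderOf t = 2 := orderOf_eq_prime
    (Subtype.ext (by rw [pow_two]; exact (congrArg (fun w : ↥G₀ => (w : X)) L.sq_a :)))
    (fun h => L.ab_ne.1 (Subtype.ext (congrArg (fun w : ↥(G₀ ⊓ centralizer ({d} : Set X)) => (w : X)) h)))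
  let ι : ↥K →* ↥(centralizer ({t} : Set ↥(G₀ ⊓ centralizer ({d} : Set X)))) :=
    { toFun := fun n => ⟨⟨(((n : ↥L.Y) : ↥G₀) : X), ((n : ↥L.Y) : ↥G₀).2,
          mem_centralizer_singleton_iff.mpr ((hiff n).mp n.2).symm⟩,
        mem_centralizer_singleton_iff.mpr (Subtype.ext (congrArg (fun w : ↥G₀ => (w : X)) (L.mem_Y.mp (n : ↥L.Y).2) :))⟩
      map_one' := rfl
      map_mul' := fun _ _ => rfl }
  have hι : Function.Bijective ι := by
    refine ⟨fun a b h => Subtype.ext (Subtype.ext (Subtype.ext (congrArg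
      (fun w : ↥(centralizer ({t} : Set ↥(G₀ ⊓ centralizer ({d} : Set X)))) =>
        ((w : ↥(G₀ ⊓ centralizer ({d} : Set X))) : X)) h))), fun w => ?_⟩
    obtain ⟨⟨v, hvG, hvd⟩, hvt⟩ := w
    have hvY : (⟨v, hvG⟩ : ↥G₀) ∈ L.Y := L.mem_Y.mpr (Subtype.ext (congrArg (fun w : ↥(G₀ ⊓ centralizer ({d} : Set X)) => (w : X))
      (mem_centralizer_singleton_iff.mp hvt) :))
    exact ⟨⟨⟨_, hvY⟩, (hiff ⟨_, hvY⟩).mpr (mem_centralizer_singleton_iff.mp hvd).symm⟩, rfl⟩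
  let eι := MulEquiv.ofBijective ι hι
  set aK : ↥K := ⟨⟨L.ga, haY⟩, haK⟩ with haK'
  haveI hZn : (zpowers aK).Normal := ⟨fun n hn x => by
    obtain ⟨i, rfl⟩ := mem_zpowers_iff.mp hn
    have hcx : Commute x aK := Subtype.ext (Subtype.ext (L.mem_Y.mp (x : ↥L.Y).2))
    rw [(hcx.zpow_right i).eq, mul_inv_cancel_right]; exact hn⟩
  have hZ : (zpowers aK).map eι.toMonoidHom =
      (zpowers t).subgroupOf (centralizer ({t} : Set ↥(G₀ ⊓ centralizer ({d} : Set X)))) := by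
    ext w
    rw [MonoidHom.map_zpowers, mem_subgroupOf, mem_zpowers_iff, mem_zpowers_iff]
    refine exists_congr fun i => ?_
    rw [Subtype.ext_iff, SubgroupClass.coe_zpow]
    exact Iff.rfl
  haveI hn' : ((zpowers t).subgroupOf (centralizer ({t} : Set ↥(G₀ ⊓ centralizer ({d} : Set X))))).Normal :=
    hZ ▸ Subgroup.Normal.map hZn _ eι.surjective
  have hU := (hK.invol aK rfl).congr (QuotientGroup.congr _ _ eι hZ)
  have hqs := (Cfsg.Lib.Components.isQuasisimple_congr eι).mp hK.qs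
  obtain ⟨d', hd', hq', ⟨F, _, _, hF', hn'', ⟨e'⟩⟩, hw'⟩ := hU
  haveI := hn''
  obtain ⟨⟨hset, hex, hgen⟩, hprim, htype⟩ := Cfsg.Lib.M22Rec.recognition d' hd' hq' F hF' e' hw'
  have hgrp : Cfsg.IsThreeTranspositionGroup (conjugatesOf d') :=
    ⟨hset, fun g y hy => IsConj.trans hy (isConj_iff.2 ⟨g, rfl⟩), hgen⟩
  obtain ⟨ψ, -⟩ := Cfsg.Lib.ThreeTr.Y332.exists_iso (Cfsg.Lib.ThreeTr.M22.mk' hgrp hprim htype)
  obtain ⟨e₀, he₀⟩ := Cfsg.Lib.M23Rec.recognition t ht hqs ψ.symm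
    ⟨⟨(g1 : X), g1.2, mem_centralizer_singleton_iff.mpr hg1d.symm⟩,
      mem_centralizer_singleton_iff.mpr (Subtype.ext (congrArg (fun w : ↥G₀ => (w : X)) hg1c.eq :)),
      fun h => hg1a (Subtype.ext (congrArg (fun w : ↥(G₀ ⊓ centralizer ({d} : Set X)) => (w : X)) h))⟩
  let θ₀ : Fj →* X := (G₀ ⊓ centralizer ({d} : Set X)).subtype.comp e₀.toMonoidHom
  have hdd : d * d = 1 := by rw [← pow_two, ← hd, pow_orderOf_eq_one]
  have hdi : d⁻¹ = d := inv_eq_of_mul_eq_one_right hdd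
  have hzz : θ₀ zz = (L.ga : X) := congrArg Subtype.val he₀
  have hcomm : ∀ y, Commute d (θ₀ y) := fun y => (mem_centralizer_singleton_iff.1 (e₀ y).2.2).symm
  have honto : ∀ g ∈ G₀, Commute g d → ∃ y, θ₀ y = g := fun g hg hgd =>
    ⟨e₀.symm ⟨g, hg, mem_centralizer_singleton_iff.2 hgd.eq⟩, congrArg Subtype.val (e₀.apply_symm_apply _)⟩
  have hinj : Function.Injective θ₀ := (Subgroup.subtype_injective _).comp e₀.injective
  -- an element of the centraliser of the short involution outside the index two subgroup moves d by it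
  have hmove : ∀ w : ↥L.Y, w ∉ K → ((w : ↥G₀) : X) * d * ((w : ↥G₀) : X)⁻¹ = d * (L.ga : X) := by
    intro w hw
    have hY : (⟨d * ((w : ↥G₀) : X) * d⁻¹, hn.conj_mem _ (w : ↥G₀).2 d⟩ : ↥G₀) ∈ L.Y := by
      refine L.mem_Y.mpr (Subtype.ext ?_)
      have h1 : Commute ((w : ↥G₀) : X) (L.ga : X) := congrArg Subtype.val (L.mem_Y.mp w.2)
      exact (((show Commute d (L.ga : X) from had).mul_left h1).mul_left (show Commute d (L.ga : X) from had).inv_left).eq
    set wd : ↥L.Y := ⟨_, hY⟩ with hwd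
    have hv : (((w * wd⁻¹ : ↥L.Y) : ↥G₀) : X) = (w : ↥G₀).1 * d * (w : ↥G₀).1⁻¹ * d⁻¹ := by
      rw [hwd]
      show ((w : ↥G₀) : X) * (d * ((w : ↥G₀) : X) * d⁻¹)⁻¹ = _
      group
    have hcen : ∀ n ∈ K, (w * wd⁻¹) * n = n * (w * wd⁻¹) := fun n hn' => by
      refine Subtype.ext (Subtype.ext ?_)
      show (((w * wd⁻¹ : ↥L.Y) : ↥G₀) : X) * _ = _ * (((w * wd⁻¹ : ↥L.Y) : ↥G₀) : X)
      rw [hv]
      set a := ((w : ↥G₀) : X)
      set b := ((n : ↥G₀) : X)
      have hb : Commute d b := (hiff n).mp hn'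
      have hb' : Commute d (a⁻¹ * b * a) := (hiff (w⁻¹ * n * w)).mp (by simpa using hKn.conj_mem n hn' w⁻¹)
      have hc : Commute (a * d * a⁻¹) b := by
        have := hb'.map (MulAut.conj a)
        simpa [mul_assoc] using this
      exact (hc.mul_left hb.inv_left).eq
    rcases hK.cent (w * wd⁻¹) hcen with h1 | h1
    · exfalso
      refine hw ((hiff w).mpr ?_)
      have h2 := congrArg (fun v : ↥G₀ => (v : X)) h1
      simp only [hv] at h2
      exact (mul_inv_eq_iff_eq_mul.1 (mul_inv_eq_one.1 h2)).symm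
    · have h2 := congrArg (fun v : ↥G₀ => (v : X)) h1
      simp only [hv] at h2
      rw [had]
      exact mul_inv_eq_iff_eq_mul.1 h2
  refine ⟨d, θ₀, hidx, hdd, hdG, hinj, fun y => (e₀ y).2.1, hcomm, honto, ?_, fun g hg hgt => ?_,
    fun g hg hgt hcent => ?_⟩
  · obtain ⟨x0, hx0K, -⟩ := hK.swap
    exact ⟨_, (x0 : ↥G₀).2, hzz ▸ (congrArg Subtype.val (L.mem_Y.mp x0.2) :), hzz ▸ hmove x0 hx0K⟩
  · rw [hzz] at hgt ⊢
    set w : ↥L.Y := ⟨⟨g, hg⟩, L.mem_Y.mpr (Subtype.ext hgt.eq)⟩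
    by_cases hwK : w ∈ K
    · exact Or.inl (Cfsg.Lib.M24Rec.conj_fixed_iff.2 (show Commute g d from ((hiff w).mp hwK).symm))
    · exact Or.inr (hmove w hwK)
  · rw [hzz] at hgt
    set w : ↥L.Y := ⟨⟨g, hg⟩, L.mem_Y.mpr (Subtype.ext hgt.eq)⟩
    have hcen : ∀ n ∈ K, w * n = n * w := fun n hn' => by
      refine Subtype.ext (Subtype.ext ?_)
      obtain ⟨y, hy⟩ := honto _ (n : ↥G₀).2 ((hiff n).mp hn').symm
      have hyH : y ∈ H23 := mem_H.2 (hinj (by
        rw [map_mul, map_mul, hy, hzz]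
        exact congrArg Subtype.val (L.mem_Y.mp (n : ↥L.Y).2)))
      show g * ((n : ↥G₀) : X) = ((n : ↥G₀) : X) * g
      rw [← hy]
      exact (hcent y hyH).eq
    rcases hK.cent w hcen with h1 | h1
    · have h2 := congrArg (fun v : ↥G₀ => (v : X)) h1
      rw [show g = 1 from h2]
      exact Commute.one_left d
    · have h2 := congrArg (fun v : ↥G₀ => (v : X)) h1
      rw [show g = (L.ga : X) from h2]
      exact had.symm

end Cfsg.Lib.LargeFischer
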