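import Cfsg.Agent.M24Rec.Letters
import Mathlib.GroupTheory.FixedPointFree

/-!
The centraliser of the simple group of the common neighbours is fixed point free under the involution apart from the
involution itself, so it centralises all three colours; hence the member found for the last letter commutes with
everything in the centraliser that fixes the last letter in the model.
-/

set_option autoImplicit false
set_option linter.unusedSectionVars false
set_option linter.style.haveILetI false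
set_option maxRecDepth 100000

namespace Cfsg.Lib.M24Rec

open Cfsg Subgroup Cfsg.Lib.ThreeTr Cfsg.Lib.CosetCert
open Cfsg.Lib.M23Rec (Fj zz D0 P0 H23 h23 zz_mem zz_sq)
open Cfsg.Lib.FiTypes (fourL)

attribute [local irreducible] FiFour.rowF FiFour.sevF FiFour.lonF FiFour.blkMask
attribute [local irreducible] FiTwenty.sig0 FiTwenty.sig1 FiTwenty.sig2 FiTwenty.sig3 FiTwenty.sig4 FiTwenty.sig5
  FiTwenty.sig6 FiTwenty.sig7 FiTwenty.sig8 FiTwenty.sig9 FiTwenty.sig10 FiTwenty.subPts FiTwenty.subIdx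
  FiTwenty.subTree1Mask FiTwenty.subTree2Mask

universe u

namespace Setting

variable {X : Type u} [Group X] {G₀ : Subgroup X} {d : X} {θ₀ : Fj →* X} (h : Setting G₀ d θ₀)
include h

variable [Finite X]

/-- The images of the elements of trivial colour. -/
def plain : Set X := {y | ∃ g : CM, ∃ hg : g.1 ∈ fourL, colour ⟨g.1, hg⟩ = 1 ∧ h.theta g = y}

theorem cent_conj {s : CM} (hs : s.1 ∈ fourL) {u : X} (hu : u ∈ centralizer h.plain) :
    (h.theta s)⁻¹ * u * h.theta s ∈ centralizer h.plain := by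
  rw [mem_cent] at hu ⊢
  rintro _ ⟨g, hg, hgc, rfl⟩
  have := hu (h.theta (s * g * s⁻¹)) ⟨_, mul_mem (mul_mem hs hg) (inv_mem hs), by
    show colour (⟨s.1, hs⟩ * ⟨g.1, hg⟩ * ⟨s.1, hs⟩⁻¹) = 1
    rw [map_mul, map_mul, hgc, mul_one, map_inv, mul_inv_cancel], rfl⟩
  rw [map_mul, map_mul, map_inv] at this
  have h2 := this.map (MulAut.conj (h.theta s)⁻¹)
  simp only [MulAut.conj_apply, inv_inv] at h2
  rwa [show (h.theta s)⁻¹ * (h.theta s * h.theta g * (h.theta s)⁻¹) * h.theta s = h.theta g by group] at h2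

theorem cent_near {u : X} (hu : u ∈ centralizer h.plain) (hd : Commute u d) : u = 1 ∨ u = d := by
  obtain ⟨k, rfl⟩ := h.theta_onto hd
  rw [mem_cent] at hu
  have hk : ∀ x ∈ FiFour.lamC, ∀ y ∈ FiFour.lamC, Commute k.1 (FiFour.im x * FiFour.im y) := by
    intro x hx y hy
    set g : CM := lt x (low x hx) * lt y (low y hy)
    have := hu (h.theta g) ⟨g, mul_mem (letter_fourL hx) (letter_fourL hy), by
      show colour (⟨FiFour.im x, letter_fourL hx⟩ * ⟨FiFour.im y, letter_fourL hy⟩) = 1
      rw [map_mul, colour_letter hx, colour_letter hy, Equiv.swap_mul_self], rfl⟩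
    exact (h.commute_iff k g).1 this
  rcases cent_letters (mem_CM.1 k.2) (fun x hx => comm_letters hk hx) with e | e
  · left; rw [show k = 1 from Subtype.ext e, map_one]
  · right; rw [show k = ⟨ll, ll_CM⟩ from Subtype.ext e, h.theta_ll]

theorem d_plain : d ∈ centralizer h.plain := mem_cent.2 fun _ ⟨g, _, _, e⟩ => e ▸ h.theta_comm g

theorem cent_colours {u : X} (hu : u ∈ centralizer h.plain) {x : ℕ} (hx : x ∈ FiFour.lamC) :
    Commute (h.theta (lt x (low x hx))) u := by
  haveI := h.normal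
  wlog huG : u ∈ G₀ generalizing u
  · have := this (u := u * d) (mul_mem hu h.d_plain) (h.mul_out huG h.out)
    have h2 := this.mul_right (h.theta_comm (lt x (low x hx))).symm
    rwa [mul_assoc, h.sq, mul_one] at h2
  set W : Subgroup X := centralizer h.plain ⊓ G₀ with hW
  have hWd : ∀ a ∈ W, d * a * d ∈ W := fun a ha => ⟨mul_mem (mul_mem h.d_plain ha.1) h.d_plain, by
    have := h.normal.conj_mem a ha.2 d
    rwa [h.inv_d] at this⟩
  let φ : W →* W := (((MulAut.conj d).toMonoidHom.comp W.subtype).codRestrict W fun a => by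
    show d * a.1 * d⁻¹ ∈ W
    rw [h.inv_d]
    exact hWd a.1 a.2)
  have hφ : ∀ a : W, (φ a).1 = d * a.1 * d := fun a => by
    show d * a.1 * d⁻¹ = _
    rw [h.inv_d]
  have hfree : MonoidHom.FixedPointFree φ := fun a ha => by
    have e : Commute a.1 d := by
      refine (conj_fixed_iff.1 ?_).symm
      rw [h.inv_d, ← hφ, ha]
    rcases h.cent_near a.2.1 e with e' | e'
    · exact Subtype.ext e'
    · exact absurd (e' ▸ a.2.2) h.out
  have hinv : Function.Involutive φ := fun a => Subtype.ext (by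
    rw [hφ, hφ]; simp only [← mul_assoc, h.sq, one_mul]; rw [mul_assoc, h.sq, mul_one])
  have hdinv : ∀ a ∈ W, d * a * d = a⁻¹ := fun a ha => by
    have := congrArg (fun f => (f ⟨a, ha⟩ : W).1) (hfree.coe_eq_inv_of_involutive hinv)
    simpa [hφ] using this
  have hcomm : ∀ a ∈ W, ∀ b ∈ W, Commute a b := fun a ha b hb =>
    congrArg Subtype.val (hfree.commute_all_of_involutive hinv ⟨a, ha⟩ ⟨b, hb⟩).eq
  set k : CM := lt x (low x hx)
  set R := h.theta k with hR
  have hRR : R * R = 1 := by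
    rw [hR, ← map_mul, show k * k = 1 from Subtype.ext (FiFour.im_sq x), map_one]
  have hRi : R⁻¹ = R := inv_eq_of_mul_eq_one_right hRR
  have hRW : ∀ a ∈ W, R * a * R ∈ W := fun a ha => by
    refine ⟨?_, ?_⟩
    · have := h.cent_conj (s := k) (letter_fourL hx) ha.1
      rwa [← hR, hRi] at this
    · have := h.normal.conj_mem a ha.2 R
      rwa [hRi] at this
  have huW : u ∈ W := ⟨hu, huG⟩
  set q := u⁻¹ * (R * u * R) with hq
  have hqW : q ∈ W := mul_mem (inv_mem huW) (hRW u huW)
  suffices hq1 : q = 1 by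
    show R * u = u * R
    have e := inv_mul_eq_one.1 hq1
    calc R * u = R * u * R * R := by rw [mul_assoc (R * u), hRR, mul_one]
      _ = u * R := by rw [← e]
  have hRq : R * q * R = q⁻¹ := by
    have e1 : R * q * R = R * u⁻¹ * R * u := by
      rw [hq]
      simp only [← mul_assoc]
      rw [mul_assoc (R * u⁻¹ * R * u) R R, hRR, mul_one]
    rw [e1, hq, mul_inv_rev, inv_inv, mul_inv_rev, mul_inv_rev, hRi, ← mul_assoc]
  set z := FiFour.down k with hz
  have hkp : k.1 ∈ perp E0 ll := letter_near hx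
  have hdR : d * R = θ₀ z := by rw [hR, h.theta_odd (perp_chi hkp), ← hz, ← mul_assoc, h.sq, one_mul]
  have hqz : Commute q (θ₀ z) := by
    refine (conj_fixed_iff.1 ?_).symm
    rw [← hdR, mul_inv_rev, hRi, h.inv_d,
      show d * R * q * (R * d) = d * (R * q * R) * d by group, hRq, hdinv _ (inv_mem hqW), inv_inv]
  obtain ⟨g, hg⟩ := isConj_iff.1 (show IsConj zz z from down_perp hkp)
  set q' := (θ₀ g)⁻¹ * q * θ₀ g with hq'

  have hq't : Commute q' (θ₀ zz) := by
    have := hqz.map (MulAut.conj (θ₀ g)⁻¹)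
    simp only [MulAut.conj_apply, inv_inv] at this
    rwa [← hg, map_mul, map_mul, map_inv,
      show (θ₀ g)⁻¹ * (θ₀ g * θ₀ zz * (θ₀ g)⁻¹) * θ₀ g = θ₀ zz by group] at this
  have hq'G : q' ∈ G₀ := mul_mem (mul_mem (inv_mem (h.even g)) hqW.2) (h.even g)
  have hq'd : q' * d * q'⁻¹ = q' * q' * d := by
    have e : d * q⁻¹ = q * d := by rw [← hdinv q hqW]; simp only [← mul_assoc, h.sq, one_mul]
    rw [hq', show (θ₀ g)⁻¹ * q * θ₀ g * d * ((θ₀ g)⁻¹ * q * θ₀ g)⁻¹ =
      (θ₀ g)⁻¹ * q * ((θ₀ g * d * (θ₀ g)⁻¹) * q⁻¹) * θ₀ g by group, conj_fixed_iff.2 (h.comm g).symm, e,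
      show (θ₀ g)⁻¹ * q * θ₀ g * ((θ₀ g)⁻¹ * q * θ₀ g) * d = (θ₀ g)⁻¹ * q * q * (θ₀ g * d) by group,
      ← (h.comm g).eq]
    group
  have hsq : q * q = 1 := by
    rcases h.orbit q' hq'G hq't with e | e <;> rw [hq'd] at e
    · have e' : q' * q' = 1 := mul_eq_right.1 e
      rw [hq', show (θ₀ g)⁻¹ * q * θ₀ g * ((θ₀ g)⁻¹ * q * θ₀ g) = (θ₀ g)⁻¹ * (q * q) * (θ₀ g)⁻¹⁻¹ by group,
        conj_eq_one_iff] at e'
      exact e'
    · exfalso
      rw [(h.comm zz).eq] at e
      have e' : q * q = θ₀ z := by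
        rw [← hg, map_mul, map_mul, map_inv, ← mul_right_cancel e, hq']
        group
      have hzW : θ₀ z ∈ W := e' ▸ mul_mem hqW hqW
      rcases h.cent_near hzW.1 (h.comm z).symm with e2 | e2
      · haveI := Cfsg.Lib.M23Rec.finite_fj
        have := h23.cls.1.1 z (down_perp hkp)
        rw [h.inj (e2.trans (map_one _).symm), orderOf_one] at this
        norm_num at this
      · exact h.out (e2 ▸ h.even z)
  have : Commute q d := by
    refine (conj_fixed_iff.1 ?_).symm
    rw [h.inv_d, hdinv q hqW, inv_eq_of_mul_eq_one_right hsq]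
  rcases h.cent_near hqW.1 this with e | e
  · exact e
  · exact absurd (e ▸ hqW.2) h.out

/-- The member for the last letter and the elements fixing that letter in the model. -/
theorem special_full : ∃ c ∈ conjugatesOf d, c * c = 1 ∧ (d * c) ^ 3 = 1 ∧
    (h.theta (lt 0 (by norm_num)) * c) ^ 3 = 1 ∧ ∀ g : CM, Commute g.1 kk → Commute (h.theta g) c := by
  obtain ⟨c, hcD, hc2, hdc, h0c, hall⟩ := h.special
  refine ⟨c, hcD, hc2, hdc, h0c, ?_⟩
  have hcP : c ∈ centralizer h.plain := by
    rw [mem_cent]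
    rintro _ ⟨g, hg, hgc, rfl⟩
    have hle : KC ≤ ((centralizer ({c} : Set X)).comap h.theta).map CM.subtype := by
      refine (closure_le _).2 ?_
      rintro _ ⟨x, hx, rfl⟩
      exact ⟨lt x (low x hx), mem_centralizer_singleton_iff.2 (hall x hx).eq, rfl⟩
    obtain ⟨a, ha, hae⟩ := hle (mem_KC (g := ⟨g.1, hg⟩) (by rw [hgc]; rfl))
    obtain rfl : a = g := Subtype.ext hae
    exact (mem_centralizer_singleton_iff.1 ha).symm
  intro g hg
  obtain ⟨a, ha, hae⟩ := fourL_gen (((centralizer ({c} : Set X)).comap h.theta).map CM.subtype) (fun s hs x hx => by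
    set sc : CM := ⟨s, FiTypes.fourL_le hs⟩
    refine ⟨sc * lt x (low x hx) * sc⁻¹, mem_centralizer_singleton_iff.2 ?_, rfl⟩
    have := (h.cent_colours (h.cent_conj (s := sc) hs hcP) hx).map (MulAut.conj (h.theta sc))
    simp only [MulAut.conj_apply] at this
    rw [show h.theta sc * ((h.theta sc)⁻¹ * c * h.theta sc) * (h.theta sc)⁻¹ = c by group] at this
    rw [map_mul, map_mul, map_inv]
    exact this.eq) (mem_fourL (mem_CM.1 g.2) hg)
  obtain rfl : a = g := Subtype.ext hae
  exact mem_centralizer_singleton_iff.1 ha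

end Setting

end Cfsg.Lib.M24Rec
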