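import Cfsg.Agent.ThreeTransposition.M23Count.Involutions

/-!
Centralisers of products of two or three commuting members of a class of type M(23): their orders separate the
three kinds, and the two factors of a product of two are read off from its centraliser.
-/

set_option autoImplicit false
set_option linter.unusedSectionVars false

namespace Cfsg.Lib.M24Rec

open Cfsg Subgroup Cfsg.Lib.ThreeTr

attribute [local instance] _root_.Classical.propDecidable

universe u

variable {G : Type u} [Group G] [Finite G]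

/-- A bound from above on a subgroup by a map separating the cosets of a smaller one. -/
theorem card_le_mul {C B : Subgroup G} {α : Type*} (S : Finset α) (φ : G → α) (hS : ∀ g ∈ C, φ g ∈ S)
    (hφ : ∀ g ∈ C, ∀ k ∈ C, φ g = φ k → g⁻¹ * k ∈ B) : Nat.card C ≤ S.card * Nat.card B := by
  classical
  choose r hr using fun s : α => (⟨if h : ∃ g ∈ C, φ g = s then h.choose else 1, fun g hg e => by
    have h : ∃ g ∈ C, φ g = s := ⟨g, hg, e⟩
    rw [dif_pos h]
    exact ⟨h.choose_spec.1, h.choose_spec.2⟩⟩ :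
    ∃ r : G, ∀ g ∈ C, φ g = s → r ∈ C ∧ φ r = s)
  let f : C → S × B := fun g => (⟨φ g, hS g g.2⟩, ⟨(r (φ g))⁻¹ * g,
    hφ _ (hr _ g g.2 rfl).1 g g.2 (hr _ g g.2 rfl).2⟩)
  have hf : Function.Injective f := fun g k e => by
    have e1 : φ (g : G) = φ (k : G) := congrArg (fun p => (p.1 : α)) e
    have e2 : (r (φ g))⁻¹ * (g : G) = (r (φ k))⁻¹ * k := congrArg (fun p => ((p.2 : B) : G)) e
    rw [e1] at e2
    exact Subtype.ext (mul_left_cancel e2)
  refine (Nat.card_le_card_of_injective f hf).trans_eq ?_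
  rw [Nat.card_prod, Nat.card_eq_fintype_card, Fintype.card_coe]

/-- A bound from below by elements in different cosets of a smaller one. -/
theorem mul_card_le {C B : Subgroup G} (hBC : B ≤ C) {S : Set G} (ρ : G → G) (hρ : ∀ x ∈ S, ρ x ∈ C)
    (hinj : ∀ x ∈ S, ∀ y ∈ S, (ρ x)⁻¹ * ρ y ∈ B → x = y) : S.ncard * Nat.card B ≤ Nat.card C := by
  let f : S × B → C := fun p => ⟨ρ p.1 * p.2, mul_mem (hρ _ p.1.2) (hBC p.2.2)⟩
  have hf : Function.Injective f := fun p q e => by
    have e' : ρ p.1 * (p.2 : G) = ρ q.1 * q.2 := congrArg Subtype.val e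
    have h1 : (p.1 : G) = q.1 := hinj _ p.1.2 _ q.1.2 (by
      rw [show (ρ p.1)⁻¹ * ρ q.1 = (p.2 : G) * (q.2 : G)⁻¹ by rw [eq_mul_inv_iff_mul_eq, mul_assoc, ← e', inv_mul_cancel_left]]
      exact mul_mem p.2.2 (inv_mem q.2.2))
    rw [h1] at e'
    exact Prod.ext (Subtype.ext h1) (Subtype.ext (mul_left_cancel e'))
  have := Nat.card_le_card_of_injective f hf
  rwa [Nat.card_prod, Nat.card_coe_set_eq] at this

theorem mem_cent {S : Set G} {g : G} : g ∈ centralizer S ↔ ∀ x ∈ S, Commute g x :=
  ⟨fun h x hx => (mem_centralizer_iff.1 h x hx).symm, fun h => mem_centralizer_iff.2 fun x hx => (h x hx).symm.eq⟩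

theorem mem_cent₂ {a b g : G} : g ∈ centralizer ({a, b} : Set G) ↔ Commute g a ∧ Commute g b := by simp [mem_cent]

theorem mem_cent₃ {a b c g : G} : g ∈ centralizer ({a, b, c} : Set G) ↔ Commute g a ∧ Commute g b ∧ Commute g c := by
  simp [mem_cent]

theorem conj_fixed_iff {a g : G} : g * a * g⁻¹ = a ↔ Commute g a :=
  ⟨fun e => mul_inv_eq_iff_eq_mul.1 e, fun e => mul_inv_eq_iff_eq_mul.2 e.eq⟩

theorem commute_of_conj_eq {a g k : G} (e : g * a * g⁻¹ = k * a * k⁻¹) : Commute (g⁻¹ * k) a :=
  conj_fixed_iff.1 (by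
    calc g⁻¹ * k * a * (g⁻¹ * k)⁻¹ = g⁻¹ * (k * a * k⁻¹) * g := by group
      _ = a := by rw [← e]; group)

/-- Centralisers of conjugate sets have one order. -/
theorem card_cent_conj (S : Set G) (g : G) :
    Nat.card ↥(centralizer ((fun x => g * x * g⁻¹) '' S)) = Nat.card ↥(centralizer S) := by
  refine (Nat.card_congr ((((MulAut.conj g).subgroupMap (centralizer S))).trans (MulEquiv.subgroupCongr ?_)).toEquiv).symm
  ext x
  rw [mem_map, mem_cent]
  constructor
  · rintro ⟨y, hy, rfl⟩ _ ⟨s, hs, rfl⟩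
    exact (mem_cent.1 hy s hs).map (MulAut.conj g)
  · intro hx
    refine ⟨g⁻¹ * x * g, mem_cent.2 fun s hs => ?_, by simp [mul_assoc]⟩
    have := (hx _ ⟨s, hs, rfl⟩).map (MulAut.conj g⁻¹)
    simpa [mul_assoc] using this

/-- A centraliser of a commuting pair permutes the pair, when no triple product is a member. -/
theorem pair_eq {D : Set G} (hcls : IsThreeTranspositionClass D)
    (h3 : ∀ x y z w, CList D [x, y, z] → w ∈ D → x * (y * z) ≠ w) {a b g : G} (ha : a ∈ D) (hb : b ∈ perp D a)
    (hg : Commute g (a * b)) : g * a * g⁻¹ = a ∧ g * b * g⁻¹ = b ∨ g * a * g⁻¹ = b ∧ g * b * g⁻¹ = a := by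
  have he : g * a * g⁻¹ * (g * b * g⁻¹) = a * b := by
    rw [show g * a * g⁻¹ * (g * b * g⁻¹) = g * (a * b) * g⁻¹ by group, hg.eq, mul_inv_cancel_right]
  set a' := g * a * g⁻¹
  have ha' : a' ∈ D := conj_mem hcls g ha
  have hc' : Commute a' (g * b * g⁻¹) := hb.2.2.map (MulAut.conj g)
  obtain ⟨c1, c2⟩ := (commute_pair_iff hcls.1 ha hb.1 ha' hb.2.1.symm hb.2.2).1
    (he ▸ (Commute.refl a').mul_right hc')
  rcases eq_or_ne a' a with e1 | e1
  · rw [e1] at he
    exact Or.inl ⟨e1, mul_left_cancel he⟩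
  rcases eq_or_ne a' b with e2 | e2
  · rw [e2, hb.2.2.eq] at he
    exact Or.inr ⟨e2, mul_left_cancel he⟩
  refine absurd ?_ (h3 a' a b (g * b * g⁻¹) ⟨by simp [e1, e2, hb.2.1.symm], by simp [ha', ha, hb.1], ?_⟩
    (conj_mem hcls g hb.1))
  · rw [← he, ← mul_assoc, sq_eq_one hcls.1 ha', one_mul]
  · intro x hx y hy
    simp only [List.mem_cons, List.not_mem_nil, or_false] at hx hy
    rcases hx with rfl | rfl | rfl <;> rcases hy with rfl | rfl | rfl <;>
      first | exact Commute.refl _ | assumption | exact c1.symm | exact c2.symm | exact hb.2.2 | exact hb.2.2.symm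

variable {D : Set G} (h : M23 D)
include h

theorem triple_not_mem (x y z w : G) (hl : CList D [x, y, z]) (hw : w ∈ D) : x * (y * z) ≠ w := fun e => by
  have := h.length_unique hl (l' := [w]) ⟨List.nodup_singleton w, by simp [hw], by simp⟩ (by simp) (by simp) (by simp)
    (by simp) (by simpa using e)
  simp at this

theorem pair_perm {a b g : G} (ha : a ∈ D) (hb : b ∈ perp D a) (hg : Commute g (a * b)) :
    g * a * g⁻¹ = a ∧ g * b * g⁻¹ = b ∨ g * a * g⁻¹ = b ∧ g * b * g⁻¹ = a :=
  pair_eq h.cls (triple_not_mem h) ha hb hg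

/-- A centraliser of a product of three permutes the three. -/
theorem triple_perm {a b c g : G} (hl : CList D [a, b, c]) (hg : Commute g (a * (b * c))) :
    g * a * g⁻¹ ∈ [a, b, c] := by
  by_contra hout
  have hE := h.cls.1
  have hn := hl.nodup
  simp only [List.nodup_cons, List.mem_cons, List.not_mem_nil, or_false, not_or, List.nodup_nil, and_true] at hn
  have hl' := hl.map_conj h.cls g
  simp only [List.map_cons, List.map_nil] at hl'
  set a' := g * a * g⁻¹
  set b' := g * b * g⁻¹
  set c' := g * c * g⁻¹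
  have he : a' * (b' * c') = a * (b * c) := by
    rw [show a' * (b' * c') = g * (a * (b * c)) * g⁻¹ by simp only [a', b', c']; group, hg.eq, mul_inv_cancel_right]
  have hc : Commute a' (a * b * c) := by
    rw [mul_assoc, ← he]
    exact (Commute.refl a').mul_right ((hl'.comm a' (by simp) b' (by simp)).mul_right (hl'.comm a' (by simp) c' (by simp)))
  obtain ⟨c1, c2, c3⟩ := (commute_triple_iff hE (hl.mem a (by simp)) (hl.mem b (by simp)) (hl.mem c (by simp))
    (hl'.mem a' (by simp)) hn.1.1 hn.1.2 hn.2.1 (hl.comm a (by simp) b (by simp)) (hl.comm a (by simp) c (by simp))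
    (hl.comm b (by simp) c (by simp))).1 hc
  simp only [List.mem_cons, List.not_mem_nil, or_false, not_or] at hout
  have h4 : CList D [a', a, b, c] := hl.cons (hl'.mem a' (by simp)) fun x hx => by
    refine ⟨hl.mem x hx, fun e => ?_, ?_⟩
    · subst e
      simp only [List.mem_cons, List.not_mem_nil, or_false] at hx
      rcases hx with e | e | e
      exacts [hout.1 e, hout.2.1 e, hout.2.2 e]
    · simp only [List.mem_cons, List.not_mem_nil, or_false] at hx
      rcases hx with rfl | rfl | rfl
      exacts [c1, c2, c3]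
  obtain ⟨s, hs, hs3, hsp⟩ := h.four_to_three h4 rfl
  have := h.length_unique hs (l' := [b', c']) hl'.of_cons.1 (by omega) (by omega) (by simp) (by simp)
    (hsp.trans (by
      simp only [List.prod_cons, List.prod_nil, mul_one]
      rw [← he, ← mul_assoc, sq_eq_one hE (hl'.mem a' (by simp)), one_mul]))
  simp [hs3] at this

theorem cent_pair_le {a b : G} (ha : a ∈ D) (hb : b ∈ perp D a) :
    Nat.card ↥(centralizer ({a * b} : Set G)) ≤ 2 * Nat.card ↥(centralizer ({a, b} : Set G)) := by
  refine (card_le_mul {a, b} (fun g => g * a * g⁻¹) (fun g hg => ?_) fun g hg k hk e => ?_).trans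
    (Nat.mul_le_mul_right _ Finset.card_le_two)
  · rcases pair_perm h ha hb (mem_centralizer_singleton_iff.1 hg) with e | e <;> simp [e.1]
  · have hgk : g⁻¹ * k ∈ centralizer ({a * b} : Set G) := mul_mem (inv_mem hg) hk
    have c1 := commute_of_conj_eq e
    rcases pair_perm h ha hb (mem_centralizer_singleton_iff.1 hgk) with e' | e'
    · exact mem_cent₂.2 ⟨c1, conj_fixed_iff.1 e'.2⟩
    · exact absurd (e'.1.symm.trans (conj_fixed_iff.2 c1)) hb.2.1

theorem cent_triple_le {a b c : G} (hl : CList D [a, b, c]) (B : Subgroup G) :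
    Nat.card ↥(centralizer ({a * (b * c)} : Set G) ⊓ B) ≤
      9 * Nat.card ↥(centralizer ({a, b, c} : Set G) ⊓ B) := by
  have hl' : CList D [b, c, a] := ⟨(List.rotate_perm [a, b, c] 1).nodup_iff.2 hl.nodup,
    fun x hx => hl.mem x (by simp at hx ⊢; tauto), fun x hx y hy => hl.comm x (by simp at hx ⊢; tauto) y (by simp at hy ⊢; tauto)⟩
  have he : b * (c * a) = a * (b * c) := by
    rw [← mul_assoc, ((hl.comm b (by simp) a (by simp)).mul_left (hl.comm c (by simp) a (by simp))).eq]
  refine (card_le_mul (({a, b, c} : Finset G) ×ˢ ({a, b, c} : Finset G)) (fun g => (g * a * g⁻¹, g * b * g⁻¹))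
    (fun g hg => ?_) fun g hg k hk e => ?_).trans (Nat.mul_le_mul_right _ ?_)
  · have hc : Commute g (a * (b * c)) := mem_centralizer_singleton_iff.1 hg.1
    have h1 := triple_perm h hl hc
    have h2 := triple_perm h hl' (he ▸ hc)
    simp only [List.mem_cons, List.not_mem_nil, or_false] at h1 h2
    simp only [Finset.mem_product, Finset.mem_insert, Finset.mem_singleton]
    exact ⟨h1, by tauto⟩
  · refine ⟨?_, B.mul_mem (B.inv_mem hg.2) hk.2⟩
    have hc : Commute (g⁻¹ * k) (a * (b * c)) :=
      mem_centralizer_singleton_iff.1 (mul_mem (inv_mem hg.1) hk.1)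
    obtain ⟨e1, e2⟩ := Prod.ext_iff.1 e
    have c1 := commute_of_conj_eq e1
    have c2 := commute_of_conj_eq e2
    refine mem_cent₃.2 ⟨c1, c2, ?_⟩
    have := (c1.inv_right.mul_right c2.inv_right)
    have h3 := (c2.inv_right.mul_right (c1.inv_right.mul_right hc))
    simpa using h3
  · rw [Finset.card_product]
    exact Nat.mul_le_mul Finset.card_le_three Finset.card_le_three

/-- A further member has a large orbit under the centraliser of a commuting pair. -/
theorem orbit_large {a b p : G} (ha : a ∈ D) (hb : b ∈ perp D a) (hp : p ∈ D) (hpa : p ≠ a) (hpb : p ≠ b) :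
    341 * Nat.card ↥(centralizer ({a, b, p} : Set G)) ≤ Nat.card ↥(centralizer ({a, b} : Set G)) := by
  have hE := h.cls.1
  have T := h.solid.full.tower
  set W := perp D a ∩ perp D b with hW
  have hW693 : W.ncard = 693 := T.adj a ha b hb
  have hfix : (insert p (W ∩ perp D p)).ncard ≤ 352 := by
    refine (Set.ncard_insert_le _ _).trans (Nat.succ_le_succ ?_)
    by_cases hap : Commute a p
    · by_cases hbp : Commute b p
      · rw [T.tri_adj a ha b hb p ⟨⟨hp, hpa, hap⟩, hp, hpb, hbp⟩]; norm_num
      · refine (Set.ncard_le_ncard (Set.inter_subset_inter_left _ Set.inter_subset_right) (Set.toFinite _)).trans ?_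
        rw [h.solid.full.nonadj b hb.1 p hp hbp]
    · refine (Set.ncard_le_ncard (Set.inter_subset_inter_left _ Set.inter_subset_left) (Set.toFinite _)).trans ?_
      rw [h.solid.full.nonadj a ha p hp hap]
  set S := W \ insert p (W ∩ perp D p) with hS
  have hS341 : 341 ≤ S.ncard := by
    have := Set.le_ncard_sdiff (insert p (W ∩ perp D p)) W
    rw [← hS, hW693] at this
    omega
  have hmove : ∀ r ∈ S, ¬ Commute p r := fun r hr k =>
    hr.2 (Or.inr ⟨hr.1, hr.1.1.1, fun e => hr.2 (Or.inl e), k⟩)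
  refine (Nat.mul_le_mul_right _ hS341).trans (mul_card_le (fun g hg => ?_) (fun x => x) (fun r hr => ?_) ?_)
  · obtain ⟨c1, c2, -⟩ := mem_cent₃.1 hg
    exact mem_cent₂.2 ⟨c1, c2⟩
  · exact mem_cent₂.2 ⟨hr.1.1.2.2.symm, hr.1.2.2.2.symm⟩
  · intro r hr r' hr' hm
    have e := conj_fixed_iff.2 (mem_cent₃.1 hm).2.2
    have hr2 := sq_eq_one hE hr.1.1.1
    have hp2 := sq_eq_one hE hp
    rw [inv_eq hE hr.1.1.1, mul_inv_rev, inv_eq hE hr'.1.1.1, inv_eq hE hr.1.1.1] at e
    have e' : r' * p * r' = r * p * r := by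
      calc r' * p * r' = (r * r) * (r' * p * r') * (r * r) := by rw [hr2, one_mul, mul_one]
        _ = r * (r * r' * p * (r' * r)) * r := by simp only [mul_assoc]
        _ = r * p * r := by rw [e]
    rw [← braid hE hp hr.1.1.1 (hmove r hr), ← braid hE hp hr'.1.1.1 (hmove r' hr')] at e'
    exact (mul_left_cancel (mul_right_cancel e')).symm

theorem cent_one {z : G} (hz : z ∈ D) {u : G} (hu : u ∈ perp D z) :
    3510 * Nat.card ↥(centralizer ({z, u} : Set G)) ≤ Nat.card ↥(centralizer ({z} : Set G)) := by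
  have hlist : ∀ x ∈ perp D z, CList D [z, x] := fun x hx =>
    CList.cons hz ⟨List.nodup_singleton x, by simp [hx.1], by simp⟩ (by simp [hx])
  choose g hg using fun x (hx : x ∈ perp D z) => h.listTrans _ _ (hlist u hu) (hlist x hx) rfl (by simp)
  have hg' : ∀ x (hx : x ∈ perp D z), g x hx * z * (g x hx)⁻¹ = z ∧ g x hx * u * (g x hx)⁻¹ = x := fun x hx => by
    have := hg x hx
    simp only [List.map_cons, List.map_nil, List.cons.injEq, and_true] at this
    exact ⟨this.1.symm, this.2.symm⟩
  rw [← h.solid.full.tower.deg z hz]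
  refine mul_card_le (centralizer_le (by simp)) (fun x => if hx : x ∈ perp D z then g x hx else 1) (fun x hx => ?_) ?_
  · rw [dif_pos hx]
    exact mem_centralizer_singleton_iff.2 (conj_fixed_iff.1 (hg' x hx).1).eq
  · intro x hx y hy hm
    rw [dif_pos hx, dif_pos hy] at hm
    have := conj_fixed_iff.2 (mem_cent₂.1 hm).2
    rw [← (hg' x hx).2, ← (hg' y hy).2]
    set p := g x hx
    set q := g y hy
    calc p * u * p⁻¹ = p * (p⁻¹ * q * u * (p⁻¹ * q)⁻¹) * p⁻¹ := by rw [this]
      _ = q * u * q⁻¹ := by group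

theorem card_cent_pair {a b a' b' : G} (ha : a ∈ D) (hb : b ∈ perp D a) (ha' : a' ∈ D) (hb' : b' ∈ perp D a') :
    Nat.card ↥(centralizer ({a', b'} : Set G)) = Nat.card ↥(centralizer ({a, b} : Set G)) := by
  have hl : ∀ a b : G, a ∈ D → b ∈ perp D a → CList D [a, b] := fun a b ha hb =>
    CList.cons ha ⟨List.nodup_singleton b, by simp [hb.1], by simp⟩ (by simp [hb])
  obtain ⟨g, hg⟩ := h.listTrans _ _ (hl a b ha hb) (hl a' b' ha' hb') rfl (by simp)
  simp only [List.map_cons, List.map_nil, List.cons.injEq, and_true] at hg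
  rw [hg.1, hg.2, ← card_cent_conj ({a, b} : Set G) g, Set.image_pair]

/-- An involution whose centraliser has the order of that of a product of two is a product of two. -/
theorem form_two {y z u : G} (hy : orderOf y = 2) (hz : z ∈ D) (hu : u ∈ perp D z)
    (hcard : Nat.card ↥(centralizer ({y} : Set G)) = Nat.card ↥(centralizer ({z * u} : Set G))) :
    ∃ a b, a ∈ D ∧ b ∈ perp D a ∧ y = a * b := by
  have hpos : 0 < Nat.card ↥(centralizer ({z, u} : Set G)) := Nat.card_pos
  have hle := cent_pair_le h hz hu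
  have hge : Nat.card ↥(centralizer ({z, u} : Set G)) ≤ Nat.card ↥(centralizer ({z * u} : Set G)) :=
    Subgroup.card_le_of_le fun g hg =>
      mem_centralizer_singleton_iff.2 ((mem_cent₂.1 hg).1.mul_right (mem_cent₂.1 hg).2).eq
  obtain ⟨l, hl, h1, h3, rfl⟩ := h.invForm y hy
  match l, h1, h3 with
  | [a], _, _ =>
    exfalso
    have h1 := cent_one h hz hu
    obtain ⟨g, hg⟩ := exists_conj h.cls hz (hl.mem a (by simp))
    rw [List.prod_singleton, ← hg, ← Set.image_singleton (f := fun x => g * x * g⁻¹), card_cent_conj] at hcard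
    omega
  | [a, b], _, _ => exact ⟨a, b, hl.mem a (by simp), hl.of_cons.2 b (by simp), by simp⟩
  | [a, b, c], _, _ =>
    exfalso
    have hb := hl.of_cons.2 b (by simp)
    have hn := hl.nodup
    simp only [List.nodup_cons, List.mem_cons, List.not_mem_nil, or_false, not_or, List.nodup_nil, and_true] at hn
    have h1 := cent_triple_le h hl ⊤
    rw [inf_top_eq, inf_top_eq] at h1
    have h2 := orbit_large h (hl.mem a (by simp)) hb (hl.mem c (by simp)) (Ne.symm hn.1.2) (Ne.symm hn.2.1)
    rw [card_cent_pair h hz hu (hl.mem a (by simp)) hb] at h2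
    simp only [List.prod_cons, List.prod_nil, mul_one] at hcard
    omega

/-- An involution centralised by as much as a pair and centralising the product of the pair is in the pair. -/
theorem mem_pair {a b t : G} (ha : a ∈ D) (hb : b ∈ perp D a) (ht : orderOf t = 2) (htne : t ≠ a * b)
    (J : Subgroup G) (hJ : ∀ g ∈ J, Commute g t ∧ Commute g (a * b))
    (hcard : Nat.card ↥(centralizer ({a, b} : Set G)) ≤ Nat.card J) : t = a ∨ t = b := by
  have h1 : Nat.card J ≤ 2 * Nat.card ↥(centralizer ({a, b} : Set G) ⊓ J) := by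
    refine (card_le_mul {a, b} (fun g => g * a * g⁻¹) (fun g hg => ?_) fun g hg k hk e => ?_).trans
      (Nat.mul_le_mul_right _ Finset.card_le_two)
    · rcases pair_perm h ha hb (hJ g hg).2 with e | e <;> simp [e.1]
    · have hgk : g⁻¹ * k ∈ J := mul_mem (inv_mem hg) hk
      refine ⟨?_, hgk⟩
      have c1 := commute_of_conj_eq e
      rcases pair_perm h ha hb (hJ _ hgk).2 with e' | e'
      · exact mem_cent₂.2 ⟨c1, conj_fixed_iff.1 e'.2⟩
      · exact absurd (e'.1.symm.trans (conj_fixed_iff.2 c1)) hb.2.1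
  obtain ⟨l, hl, hl1, hl3, rfl⟩ := h.invForm t ht
  have hsub : ∀ p ∈ l, p = a ∨ p = b := by
    intro p hp
    by_contra hne
    push Not at hne
    have h2 := orbit_large h ha hb (hl.mem p hp) hne.1 hne.2
    have hpos : 0 < Nat.card ↥(centralizer ({a, b} : Set G) ⊓ J) := Nat.card_pos
    have h3 : Nat.card ↥(centralizer ({a, b} : Set G) ⊓ J) ≤ 9 * Nat.card ↥(centralizer ({a, b, p} : Set G)) := by
      match l, hl1, hl3 with
      | [x], _, _ =>
        rw [List.mem_singleton] at hp
        subst hp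
        refine le_trans (Subgroup.card_le_of_le fun g hg => ?_) (Nat.le_mul_of_pos_left _ (by norm_num))
        exact mem_cent₃.2 ⟨(mem_cent₂.1 hg.1).1, (mem_cent₂.1 hg.1).2, by simpa using (hJ g hg.2).1⟩
      | [x, y], _, _ =>
        refine (card_le_mul ({x, y} : Finset G) (fun g => g * p * g⁻¹) (fun g hg => ?_) fun g hg k hk e => ?_).trans
          (Nat.mul_le_mul_right _ (Finset.card_le_two.trans (by norm_num)))
        · rcases pair_perm h (hl.mem x (by simp)) (hl.of_cons.2 y (by simp)) (by simpa using (hJ g hg.2).1) with e | e <;>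
            simp only [List.mem_cons, List.not_mem_nil, or_false] at hp <;> rcases hp with rfl | rfl <;> simp [e.1, e.2]
        · have hgk := (centralizer ({a, b} : Set G)).mul_mem ((centralizer ({a, b} : Set G)).inv_mem hg.1) hk.1
          exact mem_cent₃.2 ⟨(mem_cent₂.1 hgk).1, (mem_cent₂.1 hgk).2, commute_of_conj_eq e⟩
      | [x, y, z], _, _ =>
        refine (card_le_mul ({x, y, z} : Finset G) (fun g => g * p * g⁻¹) (fun g hg => ?_) fun g hg k hk e => ?_).trans
          (Nat.mul_le_mul_right _ (Finset.card_le_three.trans (by norm_num)))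
        · obtain ⟨q, hq, hqp⟩ : ∃ q, (p :: q).Perm [x, y, z] ∧ q.length = 2 :=
            ⟨_, (List.perm_cons_erase hp).symm, by rw [List.length_erase_of_mem hp]; rfl⟩
          obtain ⟨p1, p2, rfl⟩ := List.length_eq_two.1 hqp
          have hl' : CList D [p, p1, p2] := ⟨hq.nodup_iff.2 hl.nodup, fun w hw => hl.mem w (hq.subset hw),
            fun w hw v hv => hl.comm w (hq.subset hw) v (hq.subset hv)⟩
          have e := hq.prod_eq' (List.pairwise_of_forall_mem_list fun w hw v hv => hl'.comm w hw v hv)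
          have hm := triple_perm h hl' (g := g) (by
            have := (hJ g hg.2).1
            rw [← e] at this
            simpa using this)
          simpa using hq.subset hm
        · have hgk := (centralizer ({a, b} : Set G)).mul_mem ((centralizer ({a, b} : Set G)).inv_mem hg.1) hk.1
          exact mem_cent₃.2 ⟨(mem_cent₂.1 hgk).1, (mem_cent₂.1 hgk).2, commute_of_conj_eq e⟩
    omega
  match l, hl1, hl3 with
  | [x], _, _ => simpa using hsub x (by simp)
  | [x, y], _, _ =>
    refine absurd ?_ htne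
    have hxy : x ≠ y := by simpa using hl.nodup
    rcases hsub x (by simp) with rfl | rfl <;> rcases hsub y (by simp) with rfl | rfl
    · exact absurd rfl hxy
    · simp
    · simpa using hb.2.2.eq.symm
    · exact absurd rfl hxy
  | [x, y, z], _, _ =>
    exfalso
    have hn := hl.nodup
    simp only [List.nodup_cons, List.mem_cons, List.not_mem_nil, or_false, not_or, List.nodup_nil, and_true] at hn
    rcases hsub x (by simp) with rfl | rfl <;> rcases hsub y (by simp) with rfl | rfl <;>
      rcases hsub z (by simp) with rfl | rfl <;> simp_all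

end Cfsg.Lib.M24Rec
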