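import Cfsg.Agent.M24Rec.Model
import Cfsg.Agent.M24Rec.Count
import Cfsg.Agent.ThreeTransposition.M24Count.Involutions
import Cfsg.Agent.ThreeTransposition.M24Unique.Trace

/-!
In the model, the elements fixing two noncommuting members: their three colours, the nine letters, and the
elements centralising the products of two of the letters.
-/

set_option autoImplicit false
set_option linter.unusedSectionVars false
set_option linter.style.haveILetI false
set_option maxRecDepth 100000

namespace Cfsg.Lib.M24Rec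

open Cfsg Subgroup Cfsg.Lib.ThreeTr Cfsg.Lib.CosetCert
open Cfsg.Lib.FiTypes (fourL fourS fourMap)

attribute [local irreducible] FiFour.rowF FiFour.sevF FiFour.lonF FiFour.blkMask
attribute [local irreducible] FiTwenty.sig0 FiTwenty.sig1 FiTwenty.sig2 FiTwenty.sig3 FiTwenty.sig4 FiTwenty.sig5
  FiTwenty.sig6 FiTwenty.sig7 FiTwenty.sig8 FiTwenty.sig9 FiTwenty.sig10 FiTriality.uConj FiTwenty.conjWord

/-- The group on the nine letters. -/
noncomputable abbrev KC : Subgroup Fk := lgp FiFour.im FiFour.lamC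

theorem lamC_lt : ∀ x ∈ FiFour.lamC, x < 10 ∧ 1 ≤ x := by decide

theorem letter_fix {x : ℕ} (hx : x ∈ FiFour.lamC) : FiFour.im x • FiFour.pA = FiFour.pA :=
  FiFour.block_fix (lgp_mem FiFour.im hx)

theorem letter_near {x : ℕ} (hx : x ∈ FiFour.lamC) : FiFour.im x ∈ perp E0 ll :=
  FiFour.letter_perp (lamC_lt x hx).1

theorem letter_comm_kk {x : ℕ} (hx : x ∈ FiFour.lamC) : Commute (FiFour.im x) kk :=
  FiFour.good_im.comm (by have := (lamC_lt x hx).1; omega) (by norm_num)
    ((show ∀ x ∈ FiFour.lamC, FiFour.lab x 11 = 2 by decide +kernel) x hx)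

theorem kk_mem : kk ∈ E0 := (FiFour.tied_all 11 (by norm_num)).mem

theorem not_commute_kk : ¬ Commute ll kk := fun e => by
  have h1 : FiFour.pA = ll • FiFour.pA := by
    rw [← FiFour.special_point, ← mul_smul, e.eq, mul_smul, FiFour.fix_of_commute (Commute.refl ll)]
  exact FiFour.ten_move (p := FiFour.pA) le_rfl h1.symm

theorem fix_of_both {g : Fk} (h1 : Commute g ll) (h2 : Commute g kk) : g • FiFour.pA = FiFour.pA := by
  rw [← FiFour.special_point, ← mul_smul, h2.eq, mul_smul, FiFour.fix_of_commute h1]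

theorem braid_kk : ll * kk * ll = kk * ll * kk :=
  FiFour.good_im.braid (by norm_num) (by norm_num) (show FiFour.lab 10 11 = 3 by decide +kernel)

theorem comm_of_fix {g : Fk} (hg : g ∈ CM) (h : g • FiFour.pA = FiFour.pA) : Commute g kk := by
  have h1 := mem_CM.1 hg
  have h2 : Commute g (kk * ll * kk⁻¹) := (FiTypes.fourC_tied.commute h)
  rw [inv_eq_of_mul_eq_one_right (FiFour.im_sq 11)] at h2
  have e : ll * (kk * ll * kk) * ll = kk := by
    rw [← braid_kk]
    simp only [← mul_assoc, ll_sq, one_mul]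
    rw [mul_assoc, ll_sq, mul_one]
  rw [← e]
  exact (h1.mul_right h2).mul_right h1

theorem mem_fourL {g : Fk} (h1 : Commute g ll) (h2 : Commute g kk) : g ∈ fourL := by
  haveI := finite_fk
  let S : Subgroup CM := MulAction.stabilizer CM FiFour.pA
  let f : ↥fourL → S := fun g => ⟨⟨g.1, FiTypes.fourL_le g.2⟩, FiTypes.fourL_fix g.2⟩
  have hf : Function.Injective f := fun a b e => Subtype.ext (congrArg (fun y : S => y.1.1) e)
  have hc : Nat.card ↥fourL = 29713078886400 := by
    rw [Nat.card_congr (MonoidHom.ofInjective FiTypes.fourMap_injective).toEquiv, FiTypes.fourMap_range]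
    obtain ⟨q⟩ := FiTriality.quotient_iso
    haveI : (FiTriality.PG : Subgroup FiTriality.LG).Normal := MonoidHom.normal_ker _
    rw [Subgroup.card_eq_card_quotient_mul_card_subgroup FiTriality.PG, Nat.card_congr q.toEquiv,
      FiTriality.card_PG, Nat.card_perm, Nat.card_fin]
    rfl
  have h4 := Subgroup.card_mul_index S
  rw [MulAction.index_stabilizer, FiFour.eleven_facts.2.1] at h4
  have h5 := Nat.mul_le_mul_left (Nat.card S) FiFour.orbit_large
  have hS : Nat.card S ≤ 29713078886400 := by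
    have h6 : Nat.card S * 275264 ≤ 8178940946586009600 := h5.trans (le_of_eq h4)
    omega
  have hbij : Function.Bijective f :=
    (Nat.bijective_iff_injective_and_card _).2 ⟨hf, le_antisymm (Nat.card_le_card_of_injective f hf) (hc ▸ hS)⟩
  obtain ⟨w, hw⟩ := hbij.2 ⟨⟨g, mem_CM.2 h1⟩, fix_of_both h1 h2⟩
  have e : w.1 = g := congrArg (fun y : S => y.1.1) hw
  exact e ▸ w.2

theorem letter_fourL {x : ℕ} (hx : x ∈ FiFour.lamC) : FiFour.im x ∈ fourL :=
  mem_fourL (letter_near hx).2.2.symm (letter_comm_kk hx)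

theorem fourL_comm {g : Fk} (hg : g ∈ fourL) : Commute g ll ∧ Commute g kk :=
  ⟨mem_CM.1 (FiTypes.fourL_le hg), comm_of_fix (FiTypes.fourL_le hg) (FiTypes.fourL_fix hg)⟩

theorem KC_le : KC ≤ fourL := (closure_le _).2 (by rintro _ ⟨x, hx, rfl⟩; exact letter_fourL hx)

/-- The copy of the group of the common neighbours. -/
noncomputable def toLG : ↥fourL ≃* ↥FiTriality.LG :=
  (MonoidHom.ofInjective FiTypes.fourMap_injective).trans (MulEquiv.subgroupCongr FiTypes.fourMap_range)

/-- The colours. -/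
noncomputable def colour : ↥fourL →* Equiv.Perm (Fin 3) := FiTriality.sigma.comp toLG.toMonoidHom

theorem colour_letter {x : ℕ} (hx : x ∈ FiFour.lamC) :
    colour ⟨FiFour.im x, letter_fourL hx⟩ = Equiv.swap 1 2 := by
  have h11 : x ≠ 11 := by have := (lamC_lt x hx).1; omega
  have hL : x ∈ FiTriality.lamL := (show ∀ x ∈ FiFour.lamC, x ∈ FiTriality.lamL by decide) x hx
  have e : toLG ⟨FiFour.im x, letter_fourL hx⟩ = ⟨FiTriality.imE x, FiTriality.gen_mem hL⟩ := Subtype.ext (by
    show (toLG ⟨FiFour.im x, letter_fourL hx⟩).1 = FiTriality.imE x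
    rw [FiTriality.imE_low h11]
    exact FiFour.down_eq (g := ⟨FiFour.im x, _⟩) (FiFour.agrees_low (lamC_lt x hx).1))
  show FiTriality.sigma (toLG _) = _
  rw [e, FiTriality.sigma_gen hL, FiTriality.swP, if_neg h11]

theorem colour_fix {g : ↥fourL} (hg : g.1 ∈ KC) : colour g 0 = 0 := by
  have hle : KC ≤ ((MulAction.stabilizer (Equiv.Perm (Fin 3)) (0 : Fin 3)).comap colour).map fourL.subtype := by
    refine (closure_le _).2 ?_
    rintro _ ⟨x, hx, rfl⟩
    refine ⟨⟨_, letter_fourL hx⟩, ?_, rfl⟩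
    show colour _ 0 = 0
    rw [colour_letter hx]
    decide
  obtain ⟨k, hk, e⟩ := hle hg
  exact (Subtype.ext e : k = g) ▸ hk

theorem colour_surjective : Function.Surjective colour := FiTriality.sigma_surjective.comp toLG.surjective

theorem mem_KC {g : ↥fourL} (hg : colour g 0 = 0) : g.1 ∈ KC := by
  haveI := finite_fk
  let K' : Subgroup ↥fourL := (MulAction.stabilizer (Equiv.Perm (Fin 3)) (0 : Fin 3)).comap colour
  have hle : KC.subgroupOf fourL ≤ K' := fun k hk => colour_fix hk
  have hi : K'.index = 3 := by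
    rw [Subgroup.index_comap_of_surjective _ colour_surjective, MulAction.index_stabilizer_of_transitive,
      Nat.card_fin]
  have hc : Nat.card ↥fourL = 29713078886400 := by
    rw [Nat.card_congr toLG.toEquiv]
    obtain ⟨q⟩ := FiTriality.quotient_iso
    haveI : (FiTriality.PG : Subgroup FiTriality.LG).Normal := MonoidHom.normal_ker _
    rw [Subgroup.card_eq_card_quotient_mul_card_subgroup FiTriality.PG, Nat.card_congr q.toEquiv,
      FiTriality.card_PG, Nat.card_perm, Nat.card_fin]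
    rfl
  have h1 := Subgroup.card_mul_index K'
  rw [hi, hc] at h1
  have h2 : Nat.card K' ≤ Nat.card ↥(KC.subgroupOf fourL) := by
    rw [Nat.card_congr (Subgroup.subgroupOfEquivOfLe KC_le).toEquiv]
    exact le_trans (by omega) FiFour.card_block
  have e := Subgroup.eq_of_le_of_card_ge hle h2
  exact (e.symm ▸ (show g ∈ K' from hg) : g ∈ KC.subgroupOf fourL)

theorem eq_one_of_KC {g : ↥fourL} (hg : ∀ k ∈ KC, Commute g.1 k) : g = 1 := by
  refine toLG.injective ((FiTriality.eq_one_of_comm fun p hp => ?_).trans (map_one _).symm)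
  obtain ⟨p, rfl⟩ := toLG.surjective p
  rw [← map_mul, ← map_mul]
  exact congrArg toLG (Subtype.ext (hg p.1 (mem_KC (by
    show FiTriality.sigma (toLG p) 0 = 0
    rw [hp]; rfl))).eq)

theorem swap_cent : ∀ π : Equiv.Perm (Fin 3), π * Equiv.swap 1 2 = Equiv.swap 1 2 * π → π 0 = 0 := by decide +kernel

theorem mem_KC_of_comm {v : Fk} (h1 : Commute v ll) (h2 : Commute v kk) {x : ℕ} (hx : x ∈ FiFour.lamC)
    (h3 : Commute v (FiFour.im x)) : v ∈ KC := by
  refine mem_KC (g := ⟨v, mem_fourL h1 h2⟩) (swap_cent _ ?_)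
  rw [← colour_letter hx, ← map_mul, ← map_mul]
  exact congrArg colour (Subtype.ext h3.eq)

/-- The conjugates of the nine letters generate the whole group fixing both. -/
theorem fourL_gen (N : Subgroup Fk) (hN : ∀ s ∈ fourL, ∀ x ∈ FiFour.lamC, s * FiFour.im x * s⁻¹ ∈ N) :
    fourL ≤ N := by
  intro g hg
  obtain ⟨r, hr⟩ := colour_surjective (Equiv.swap 0 1)
  have hK : KC ≤ N := (closure_le _).2 (by
    rintro _ ⟨x, hx, rfl⟩
    simpa using hN 1 (one_mem _) x hx)
  set a : ↥fourL := r * ⟨FiFour.im 1, letter_fourL (by decide)⟩ * r⁻¹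
  set b : ↥fourL := ⟨FiFour.im 1, letter_fourL (by decide)⟩
  have haN : a.1 ∈ N := hN r.1 r.2 1 (by decide)
  have hbN : b.1 ∈ N := hK (lgp_mem FiFour.im (show 1 ∈ FiFour.lamC by decide))
  have ha : colour a = Equiv.swap 0 2 := by
    rw [map_mul, map_mul, map_inv, hr, colour_letter (show 1 ∈ FiFour.lamC by decide)]
    decide +kernel
  have hb : colour b = Equiv.swap 1 2 := colour_letter (show 1 ∈ FiFour.lamC by decide)
  have key : ∀ π : Equiv.Perm (Fin 3), π 0 = 0 ∨ Equiv.swap (0 : Fin 3) 2 (π 0) = 0 ∨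
      Equiv.swap (0 : Fin 3) 2 (Equiv.swap (1 : Fin 3) 2 (π 0)) = 0 := by decide +kernel
  rcases key (colour ⟨g, hg⟩) with e | e | e
  · exact hK (mem_KC e)
  · have := hK (mem_KC (g := a * ⟨g, hg⟩) (by rw [map_mul, ha]; exact e))
    exact (mul_mem_cancel_left haN).1 this
  · have := hK (mem_KC (g := a * b * ⟨g, hg⟩) (by rw [map_mul, map_mul, ha, hb]; exact e))
    exact (mul_mem_cancel_left (mul_mem haN hbN)).1 this

theorem partner_ok : ∀ x ∈ FiFour.lamC, ∃ y ∈ FiFour.lamC, ∃ z ∈ FiFour.lamC, FiFour.lab x y = 2 ∧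
    FiFour.lab x z = 2 ∧ FiFour.letterPoint x ≠ FiFour.letterPoint y ∧ FiFour.letterPoint x ≠ FiFour.letterPoint z ∧
      FiFour.letterPoint y ≠ FiFour.letterPoint z := by
  decide +kernel

theorem letter_ne {x y : ℕ} (hx : x < 12) (hy : y < 12) (h : FiFour.letterPoint x ≠ FiFour.letterPoint y) :
    FiFour.im x ≠ FiFour.im y := fun e => h (by
  have := (FiFour.tied_all x hx).point (e ▸ FiFour.tied_all y hy)
  rw [← FiFour.pt_val hx, ← FiFour.pt_val hy, this])

/-- Centralising the products of two of the letters means centralising the letters. -/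
theorem comm_letters {g : Fk} (hg : ∀ x ∈ FiFour.lamC, ∀ y ∈ FiFour.lamC, Commute g (FiFour.im x * FiFour.im y))
    {x : ℕ} (hx : x ∈ FiFour.lamC) : Commute g (FiFour.im x) := by
  haveI := finite_fk
  obtain ⟨y, hy, z, hz, hxy, hxz, n1, n2, n3⟩ := partner_ok x hx
  have hlt : ∀ {x}, x ∈ FiFour.lamC → x < 12 := fun hx => by have := (lamC_lt _ hx).1; omega
  have h3 : ∀ a b c w, CList E0 [a, b, c] → w ∈ E0 → a * (b * c) ≠ w := fun a b c w hl hw e => by
    have := h24.length_unique hl (l' := [w]) ⟨List.nodup_singleton w, by simp [hw], by simp⟩ (by simp) (by simp)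
      (by simp) (by simp) (by simpa using e)
    simp at this
  have hm : ∀ {x}, x ∈ FiFour.lamC → FiFour.im x ∈ E0 := fun hx => (letter_near hx).1
  rcases pair_eq h24.cls h3 (hm hx) ⟨hm hy, (letter_ne (hlt hx) (hlt hy) n1).symm,
      FiFour.good_im.comm (hlt hx) (hlt hy) hxy⟩ (hg x hx y hy) with e | e
  · exact conj_fixed_iff.1 e.1
  rcases pair_eq h24.cls h3 (hm hx) ⟨hm hz, (letter_ne (hlt hx) (hlt hz) n2).symm,
      FiFour.good_im.comm (hlt hx) (hlt hz) hxz⟩ (hg x hx z hz) with e' | e'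
  · exact conj_fixed_iff.1 e'.1
  · exact absurd (e.1.symm.trans e'.1) (letter_ne (hlt hy) (hlt hz) n3)

theorem nine_near : FiFour.im 9 ∈ perp E0 ll ∧ kk ∈ perp E0 (FiFour.im 9) ∧ ll ∈ perp E0 (FiFour.im 9) := by
  have h := letter_near (show 9 ∈ FiFour.lamC by decide)
  refine ⟨h, ⟨kk_mem, fun e => not_commute_kk ?_, letter_comm_kk (show 9 ∈ FiFour.lamC by decide)⟩,
    ll_mem, h.2.1.symm, h.2.2.symm⟩
  show Commute ll (FiFour.im 11)
  rw [show FiFour.im 11 = FiFour.im 9 from e]
  exact h.2.2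

/-- Only the distinguished member centralises the nine letters near it. -/
theorem cent_letters {g : Fk} (h1 : Commute g ll) (hg : ∀ x ∈ FiFour.lamC, Commute g (FiFour.im x)) :
    g = 1 ∨ g = ll := by
  haveI := finite_fk
  obtain ⟨hy, hc, -⟩ := nine_near
  set y := FiFour.im 9
  have hgy : Commute g y := hg 9 (by decide)
  have hc' : g * kk * g⁻¹ ∈ perp E0 y := by
    refine ⟨ThreeTr.conj_mem h24.cls g hc.1, fun e => hc.2.1 ?_, ?_⟩
    · calc kk = g⁻¹ * (g * kk * g⁻¹) * g := by group
        _ = y := by rw [e, mul_assoc, ← hgy.eq, inv_mul_cancel_left]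
    · have := hc.2.2.map (MulAut.conj g)
      simpa [conj_fixed_iff.2 hgy] using this
  have hdc' : ¬ Commute ll (g * kk * g⁻¹) := fun e => not_commute_kk (by
    rw [← conj_commute_iff g]
    rwa [conj_fixed_iff.2 h1])
  have hcomK : ∀ v ∈ KC, Commute g v := fun v hv => by
    have hle : KC ≤ centralizer ({g} : Set Fk) := (closure_le _).2 (by
      rintro _ ⟨x, hx, rfl⟩
      exact mem_centralizer_singleton_iff.2 (hg x hx).eq.symm)
    exact (mem_centralizer_singleton_iff.1 (hle hv)).symm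
  rcases M24U.eq_of_local h24 ll_mem hy hc hc' not_commute_kk hdc' (fun v hv => by
    obtain ⟨⟨⟨hv1, -, hv2⟩, -, -, hv3⟩, -, -, hv4⟩ := hv
    have hvK := mem_KC_of_comm hv2.symm hv4.symm (show 9 ∈ FiFour.lamC by decide) hv3.symm
    refine ⟨hv1, fun e => hdc' (e ▸ hv2), ?_⟩
    have := hv4.map (MulAut.conj g)
    simpa [conj_fixed_iff.2 (hcomK v hvK)] using this) with e | e
  · refine Or.inl ?_
    exact congrArg Subtype.val (eq_one_of_KC (g := ⟨g, mem_fourL h1 (conj_fixed_iff.1 e)⟩) hcomK)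
  · refine Or.inr ?_
    have h2 : Commute (ll * g) kk := conj_fixed_iff.1 (by
      rw [show ll * g * kk * (ll * g)⁻¹ = ll * (g * kk * g⁻¹) * ll⁻¹ by group, e,
        inv_eq_of_mul_eq_one_right ll_sq]
      simp only [← mul_assoc, ll_sq, one_mul]
      rw [mul_assoc, ll_sq, mul_one])
    have := congrArg Subtype.val (eq_one_of_KC (g := ⟨ll * g, mem_fourL ((Commute.refl ll).mul_left h1) h2⟩)
      fun k hk => by
        have hkl : Commute ll k := (fourL_comm (KC_le hk)).1.symm
        exact hkl.mul_left (hcomK k hk))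
    have h3 : ll * g = 1 := this
    rw [eq_inv_of_mul_eq_one_right h3, inv_eq_of_mul_eq_one_right ll_sq]

end Cfsg.Lib.M24Rec
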