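import Cfsg.Agent.M24Rec.Colour
import Cfsg.Agent.FiFour.SemiLong

/-!
The member found for the last letter completes the centraliser of the involution to a copy of the model.
-/

set_option autoImplicit false
set_option linter.unusedSectionVars false
set_option linter.style.haveILetI false
set_option maxRecDepth 100000

namespace Cfsg.Lib.M24Rec

open Cfsg Subgroup Cfsg.Lib.ThreeTr Cfsg.Lib.CosetCert
open Cfsg.Lib.M23Rec (Fj)
open Cfsg.Lib.FiFour (im lab wval_rpt wval_cons wval_nil wval_single pairWord centreWord lamT)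

attribute [local irreducible] FiFour.rowF FiFour.sevF FiFour.lonF FiFour.blkMask
attribute [local irreducible] FiFour.SA.edgeT FiFour.SA.parT FiFour.SA.imgT FiFour.SA.rotT
attribute [local irreducible] FiTwenty.sig0 FiTwenty.sig1 FiTwenty.sig2 FiTwenty.sig3 FiTwenty.sig4 FiTwenty.sig5
  FiTwenty.sig6 FiTwenty.sig7 FiTwenty.sig8 FiTwenty.sig9 FiTwenty.sig10 FiTwenty.subPts FiTwenty.subIdx
  FiTwenty.subTree1Mask FiTwenty.subTree2Mask

universe u

/-- A letter among the first eleven, in the centraliser. -/
noncomputable def lo (n : ℕ) : CM :=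
  if h : n < 11 then ⟨im n, lgp_mem im (FiFour.eleven_val h)⟩ else ⟨im 0, lgp_mem im (FiFour.eleven_val (by norm_num))⟩

theorem lo_val {n : ℕ} (h : n < 11) : (lo n).1 = im n := by rw [lo, dif_pos h]

theorem lab_last : ∀ x : Fin 11, FiFour.lab x.val 11 = (if x.val = 0 ∨ x.val = 10 then 3 else 2) ∧
    FiFour.lab 11 x.val = FiFour.lab x.val 11 := by decide +kernel

namespace Setting

variable {X : Type u} [Group X] {G₀ : Subgroup X} {d : X} {θ₀ : Fj →* X} (h : Setting G₀ d θ₀) [Finite X]
include h

/-- A copy of the model extending the centraliser. -/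
theorem exists_model : ∃ F : Fk →* X, Function.Injective F ∧ ∀ k : CM, F k.1 = h.theta k := by
  obtain ⟨c, -, hc2, hdc, h0c, hck⟩ := h.special_full
  set v : ℕ → X := fun n => if n = 11 then c else h.theta (lo n) with hv
  set f : ℕ → X × Fk := fun n => (v n, im n) with hf
  have v11 : v 11 = c := if_pos rfl
  have vlow : ∀ {n}, n ≠ 11 → v n = h.theta (lo n) := fun {n} hn => if_neg hn
  have hsq : ∀ n, f n * f n = 1 := fun n => by
    refine Prod.ext ?_ (FiFour.im_sq n)
    show v n * v n = 1
    by_cases hn : n = 11
    · rw [hn, v11, hc2]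
    · rw [vlow hn, ← map_mul]
      refine (congrArg h.theta (Subtype.ext ?_ : lo n * lo n = 1)).trans (map_one _)
      rw [lo]; split_ifs <;> exact FiFour.im_sq _
  have hlow : ∀ w : List ℕ, (∀ l ∈ w, l < 11) → ∃ k : CM, k.1 = wval im w ∧ wval v w = h.theta k := by
    intro w
    induction w with
    | nil => exact fun _ => ⟨1, rfl, (map_one _).symm⟩
    | cons x w ih =>
      intro hw
      obtain ⟨k, hk, hkv⟩ := ih fun l hl => hw l (List.mem_cons_of_mem x hl)
      have hx := hw x List.mem_cons_self
      exact ⟨lo x * k, by rw [coe_mul, lo_val hx, hk, wval_cons],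
        by rw [wval_cons, hkv, vlow (by omega), map_mul]⟩
  have hfw : ∀ w : List ℕ, wval f w = (wval v w, wval im w) := by
    intro w
    induction w with
    | nil => rfl
    | cons x w ih => rw [wval_cons, wval_cons, wval_cons, ih]; rfl
  have hlast : ∀ x < 11, (v x * c) ^ lab x 11 = 1 := by
    intro x hx
    rw [(lab_last ⟨x, hx⟩).1, vlow (by omega)]
    simp only
    split_ifs with e
    · rcases e with rfl | rfl
      · rw [show lo 0 = lt 0 (by norm_num) from Subtype.ext (lo_val (by norm_num))]
        exact h0c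
      · rw [show lo 10 = ⟨ll, ll_CM⟩ from Subtype.ext (lo_val (by norm_num)), h.theta_ll]
        exact hdc
    · have hk := hck (lo x) (by
        rw [lo_val hx]
        exact FiFour.good_im.comm (by omega) (by norm_num) (((lab_last ⟨x, hx⟩).1).trans (if_neg e)))
      rw [pow_two, hk.symm.mul_mul_mul_comm, hc2, mul_one, ← map_mul,
        show lo x * lo x = 1 from Subtype.ext (by rw [coe_mul, lo_val hx, FiFour.im_sq]; rfl), map_one]
  have hS : FiFour.Semi f (MonoidHom.snd X Fk) := by
    refine ⟨fun w hw => ?_, fun x => rfl, hsq⟩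
    have low : ∀ w, (∀ l ∈ w, l < 11) → wval im w = 1 → wval f w = 1 := fun w hl he => by
      obtain ⟨k, hk, hkv⟩ := hlow w hl
      rw [hfw, hkv, show k = 1 from Subtype.ext (hk.trans he), map_one, he]
      rfl
    rcases List.mem_append.1 hw with hw | hw
    · rcases List.mem_cons.1 hw with rfl | hw
      · rfl
      · obtain ⟨x, hx, hw⟩ := List.mem_flatMap.1 hw
        obtain ⟨y, hy, rfl⟩ := List.mem_map.1 hw
        rw [List.mem_range] at hx hy
        rw [hfw]
        refine Prod.ext ?_ (FiFour.good_im.pair_word hx hy)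
        show wval v (pairWord x y) = 1
        rcases (show x < 11 ∨ x = 11 by omega) with hx' | rfl <;> rcases (show y < 11 ∨ y = 11 by omega) with hy' | rfl
        · have := low (pairWord x y) (fun l hl => by
            rw [pairWord, FiFour.rpt, List.mem_flatten] at hl
            obtain ⟨u, hu, hl⟩ := hl
            rw [List.eq_of_mem_replicate hu] at hl
            simp only [List.mem_cons, List.mem_nil_iff, or_false] at hl
            rcases hl with rfl | rfl <;> assumption) (FiFour.good_im.pair_word hx hy)
          rw [hfw] at this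
          exact congrArg Prod.fst this
        · rw [pairWord, wval_rpt, wval_cons, wval_single, v11]
          exact hlast x hx'
        · rw [pairWord, wval_rpt, wval_cons, wval_single, v11, (lab_last ⟨y, hy'⟩).2]
          have e : c * v y = c * (v y * c) * c⁻¹ := by group
          rw [e, conj_pow, hlast y hy', mul_one, mul_inv_cancel]
        · rw [pairWord, FiFour.lab_self, wval_rpt, wval_cons, wval_single, v11, hc2, one_pow]
    · rw [List.mem_singleton.1 hw]
      exact low _ (by decide +kernel) (FiFour.good_im _ (List.mem_append_right _ List.mem_cons_self))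
  have hsec : ∀ k : CM, hS.sec k = (h.theta k, k.1) := by
    rintro ⟨g, hg⟩
    induction hg using Subgroup.closure_induction with
    | mem y hy =>
      obtain ⟨x, hx, rfl⟩ := hy
      rw [hS.sec_letter hx]
      have hx' : x < 11 := (show ∀ x ∈ lamT, x < 11 by decide) x hx
      refine Prod.ext ?_ rfl
      show v x = _
      rw [vlow (by omega)]
      exact congrArg h.theta (Subtype.ext (lo_val hx'))
    | one =>
      rw [show (⟨1, _⟩ : CM) = 1 from rfl, map_one, map_one]
      rfl
    | mul a b ha hb iha ihb =>
      rw [show (⟨a * b, _⟩ : CM) = ⟨a, ha⟩ * ⟨b, hb⟩ from rfl, map_mul, map_mul, iha, ihb]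
      rfl
    | inv a ha iha =>
      rw [show (⟨a⁻¹, _⟩ : CM) = ⟨a, ha⟩⁻¹ from rfl, map_inv, map_inv, iha]
      rfl
  have hlong : wval f (FiFour.rpt 17 FiFour.longBase) = 1 := by
    refine hS.long_one fun k k' hrep hk' => ?_
    obtain ⟨g, hg, hg', hA, -, -⟩ := FiFour.SA.name_spec 45924 (by norm_num) le_rfl
    have hkg : k.1 = g := mul_left_cancel (hrep.symm.trans hg')
    have hl := FiFour.SA.last_ok
    rw [Bool.and_eq_true] at hl
    have hfix : k.1 • FiFour.pA = FiFour.pA := by
      rw [hkg]
      have e1 : g⁻¹ • FiFour.pA = FiFour.pA := Fin.ext (by rw [hA, Nat.eq_of_beq_eq_true hl.1]; rfl)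
      exact (inv_smul_eq_iff.1 e1).symm
    have hcomm : Commute k.1 kk := comm_of_fix k.2 hfix
    have ek : k' = k := Subtype.ext (by
      rw [hk', ← hcomm.eq, mul_assoc, FiFour.im_sq, mul_one])
    rw [ek, hsec]
    refine Prod.ext ?_ ?_
    · show v 11 * h.theta k * v 11 = h.theta k
      rw [v11, ← (hck k hcomm).eq, mul_assoc, hc2, mul_one]
    · show im 11 * k.1 * im 11 = k.1
      rw [← hcomm.eq, mul_assoc, FiFour.im_sq, mul_one]
  have hgood : FiFour.Good f := by
    intro w hw
    rcases List.mem_append.1 hw with hw | hw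
    · exact hS.rel w (List.mem_append_left _ (List.mem_cons_of_mem _ hw))
    · simp only [List.mem_cons, List.mem_nil_iff, or_false] at hw
      rcases hw with rfl | rfl
      · exact hS.rel _ (List.mem_append_right _ List.mem_cons_self)
      · exact hlong
  set F : Fk →* X := (MonoidHom.fst X Fk).comp (FiFour.toGrp hgood) with hF
  have hFk : ∀ k : CM, F k.1 = h.theta k := by
    rintro ⟨g, hg⟩
    induction hg using Subgroup.closure_induction with
    | mem y hy =>
      obtain ⟨x, hx, rfl⟩ := hy
      have hx' : x < 11 := (show ∀ x ∈ lamT, x < 11 by decide) x hx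
      show (FiFour.toGrp hgood (im x)).1 = _
      rw [FiFour.toGrp_im hgood (by omega)]
      show v x = _
      rw [vlow (by omega)]
      exact congrArg h.theta (Subtype.ext (lo_val hx'))
    | one => exact (map_one F).trans (map_one h.theta).symm
    | mul a b ha hb iha ihb =>
      rw [map_mul F, iha, ihb, ← map_mul]
      rfl
    | inv a ha iha =>
      rw [map_inv F, iha, ← map_inv]
      rfl
  refine ⟨F, (injective_iff_map_eq_one F).2 fun n hn => ?_, hFk⟩
  haveI := FiFour.simple_even
  have hdisj : F.ker.subgroupOf FiFour.evenPart = ⊥ := by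
    rcases Subgroup.Normal.eq_bot_or_eq_top (inferInstance : (F.ker.subgroupOf FiFour.evenPart).Normal) with e | e
    · exact e
    · exfalso
      set a : CM := lo 1 * ⟨ll, ll_CM⟩ with ha
      have hae : a.1 ∈ FiFour.evenPart := by
        show FiFour.chi _ = 1
        rw [ha, coe_mul, map_mul, lo_val (by norm_num), FiFour.chi_im (by norm_num), FiFour.chi_im (by norm_num)]
        decide
      have h1 : F a.1 = 1 := (e ▸ mem_top (⟨a.1, hae⟩ : FiFour.evenPart) :
        (⟨a.1, hae⟩ : FiFour.evenPart) ∈ F.ker.subgroupOf FiFour.evenPart)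
      rw [hFk] at h1
      have h2 : a.1 = 1 := congrArg Subtype.val (h.theta_inj (h1.trans (map_one _).symm))
      rw [ha, coe_mul, lo_val (by norm_num)] at h2
      exact (FiFour.letter_perp (show 1 < 10 by norm_num)).2.1
        ((eq_inv_of_mul_eq_one_left h2).trans (inv_eq_of_mul_eq_one_right ll_sq))
  have hc : n ∈ center Fk := by
    rw [mem_center_iff]
    intro g
    have hm : n * g * n⁻¹ * g⁻¹ ∈ FiFour.evenPart := by
      show FiFour.chi _ = 1
      simp only [map_mul, map_inv]
      rw [mul_right_comm (FiFour.chi n) (FiFour.chi g), mul_inv_cancel, one_mul, mul_inv_cancel]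
    have hk : (⟨_, hm⟩ : FiFour.evenPart) ∈ F.ker.subgroupOf FiFour.evenPart := by
      show F (n * g * n⁻¹ * g⁻¹) = 1
      simp [hn]
    rw [hdisj, mem_bot] at hk
    have e : n * g * n⁻¹ * g⁻¹ = 1 := congrArg Subtype.val hk
    calc g * n = (n * g * n⁻¹ * g⁻¹) * g * n := by rw [e, one_mul]
      _ = n * g := by group
  rwa [FiFour.center_eq, mem_bot] at hc

end Setting

end Cfsg.Lib.M24Rec
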