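import Cfsg.Agent.M24Rec.Count

import Cfsg.Agent.Coprime.SolvableBasics
import Cfsg.Agent.ThreeTransposition.M24Count.Involutions

/-!
In a group of type M(24): the class of products of two commuting members has even length, some product of four
centralises a Sylow subgroup for two, and nothing centralising a product of three moves a factor to a fourth member.
-/

set_option autoImplicit false
set_option linter.unusedSectionVars false
set_option linter.style.haveILetI false

namespace Cfsg.Lib.M24Rec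

open Cfsg Subgroup Cfsg.Lib.ThreeTr

attribute [local instance] _root_.Classical.propDecidable

universe u

theorem ncard_class {G : Type u} [Group G] [Finite G] (x : G) :
    (conjugatesOf x).ncard = (centralizer ({x} : Set G)).index := by
  let φ : G ⧸ centralizer ({x} : Set G) → conjugatesOf x :=
    Quotient.lift (fun g => (⟨g * x * g⁻¹, isConj_iff.2 ⟨g, rfl⟩⟩ : conjugatesOf x)) fun a b hab => Subtype.ext (by
      have hc : Commute (a⁻¹ * b) x := mem_centralizer_singleton_iff.1 (QuotientGroup.leftRel_apply.1 hab)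
      have := conj_fixed_iff.2 hc
      calc a * x * a⁻¹ = a * (a⁻¹ * b * x * (a⁻¹ * b)⁻¹) * a⁻¹ := by rw [this]
        _ = b * x * b⁻¹ := by group)
  have hφ : Function.Bijective φ := by
    refine ⟨fun p q e => ?_, fun y => ?_⟩
    · induction p using Quotient.ind with
      | _ a =>
        induction q using Quotient.ind with
        | _ b =>
          exact Quotient.sound (QuotientGroup.leftRel_apply.2 (mem_centralizer_singleton_iff.2
            (commute_of_conj_eq (congrArg Subtype.val e)).eq))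
    · obtain ⟨g, hg⟩ := isConj_iff.1 (show IsConj x y.1 from y.2)
      exact ⟨Quotient.mk'' g, Subtype.ext hg⟩
  rw [Subgroup.index, ← Nat.card_coe_set_eq]
  exact (Nat.card_eq_of_bijective φ hφ).symm

variable {G : Type u} [Group G] [Finite G] {D : Set G} (h : ThreeTr.M24 D)
include h

theorem clist_pair {a b : G} (ha : a ∈ D) (hb : b ∈ perp D a) : CList D [a, b] :=
  CList.cons ha ⟨List.nodup_singleton b, by simp [hb.1], by simp⟩ (by simp [hb])

theorem pair_conj {a b a' b' : G} (ha : a ∈ D) (hb : b ∈ perp D a) (ha' : a' ∈ D) (hb' : b' ∈ perp D a') :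
    ∃ g : G, g * a * g⁻¹ = a' ∧ g * b * g⁻¹ = b' := by
  obtain ⟨g, hg⟩ := h.listTrans _ _ (clist_pair h ha hb) (clist_pair h ha' hb') rfl (by simp)
  simp only [List.map_cons, List.map_nil, List.cons.injEq, and_true] at hg
  exact ⟨g, hg.1.symm, hg.2.symm⟩

theorem pair_unique {a b a' b' : G} (ha : a ∈ D) (hb : b ∈ perp D a) (ha' : a' ∈ D) (hb' : b' ∈ perp D a')
    (e : a' * b' = a * b) : a' = a ∧ b' = b ∨ a' = b ∧ b' = a := by
  obtain ⟨g, rfl, rfl⟩ := pair_conj h ha hb ha' hb'
  refine pair_eq h.cls (fun x y z w hl hw e => ?_) ha hb ?_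
  · have := h.length_unique hl (l' := [w]) ⟨List.nodup_singleton w, by simp [hw], by simp⟩ (by simp) (by simp)
      (by simp) (by simp) (by simpa using e)
    simp at this
  · exact conj_fixed_iff.1 (by rw [← conj_mul]; exact e)

/-- The class of a product of two commuting members has even length. -/
theorem pair_class_even {a b : G} (ha : a ∈ D) (hb : b ∈ perp D a) :
    2 ∣ (centralizer ({a * b} : Set G)).index := by
  rw [← ncard_class]
  set Df := (Set.toFinite D).toFinset with hDf
  let P : Finset ((_ : G) × G) := Df.sigma fun x => (Set.toFinite (perp D x)).toFinset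
  have hP : P.card = 306936 * 31671 := by
    rw [Finset.card_sigma, Finset.sum_const_nat (m := 31671) fun x hx => ?_, hDf,
      ← Set.ncard_eq_toFinset_card _ (Set.toFinite D), h.solid.full.card]
    rw [← Set.ncard_eq_toFinset_card _ (Set.toFinite (perp D x))]
    exact h.solid.full.tower.deg x (by simpa [hDf] using hx)
  let π : (_ : G) × G → G := fun p => p.1 * p.2
  have hmem : ∀ {p}, p ∈ P ↔ p.1 ∈ D ∧ p.2 ∈ perp D p.1 := fun {p} => by simp [P, hDf]
  have himg : P.image π = (Set.toFinite (conjugatesOf (a * b))).toFinset := by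
    ext y
    rw [Finset.mem_image, Set.Finite.mem_toFinset]
    constructor
    · rintro ⟨p, hp, rfl⟩
      obtain ⟨g, e1, e2⟩ := pair_conj h ha hb (hmem.1 hp).1 (hmem.1 hp).2
      exact isConj_iff.2 ⟨g, by rw [← conj_mul, e1, e2]⟩
    · intro hy
      obtain ⟨g, rfl⟩ := isConj_iff.1 (show IsConj (a * b) y from hy)
      refine ⟨⟨g * a * g⁻¹, g * b * g⁻¹⟩, hmem.2 ⟨conj_mem h.cls g ha, ?_⟩, by simp only [π]; rw [conj_mul]⟩
      rw [← conj_image_perp h.cls g a]
      exact ⟨b, hb, rfl⟩
  have hfib : ∀ y ∈ P.image π, (P.filter fun p => π p = y).card = 2 := by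
    intro y hy
    obtain ⟨p, hp, rfl⟩ := Finset.mem_image.1 hy
    obtain ⟨h1, h2⟩ := hmem.1 hp
    have e : P.filter (fun q => π q = π p) = {p, ⟨p.2, p.1⟩} := by
      ext q
      simp only [Finset.mem_filter, Finset.mem_insert, Finset.mem_singleton]
      constructor
      · rintro ⟨hq, e⟩
        rcases pair_unique h h1 h2 (hmem.1 hq).1 (hmem.1 hq).2 e with ⟨e1, e2⟩ | ⟨e1, e2⟩
        · exact Or.inl (Sigma.ext e1 (heq_of_eq e2))
        · exact Or.inr (Sigma.ext e1 (heq_of_eq e2))
      · rintro (rfl | rfl)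
        · exact ⟨hp, rfl⟩
        · exact ⟨hmem.2 ⟨h2.1, h1, h2.2.1.symm, h2.2.2.symm⟩, h2.2.2.eq.symm⟩
    rw [e]
    refine Finset.card_pair fun k => h2.2.1 ?_
    exact (congrArg Sigma.fst k).symm
  have := Finset.card_eq_sum_card_image π P
  rw [Finset.sum_const_nat hfib, hP, himg, ← Set.ncard_eq_toFinset_card _ (Set.toFinite _)] at this
  omega

/-- Some product of four commuting members centralises a Sylow subgroup for two. -/
theorem exists_quad_sylow : ∃ (l : List G) (S : Sylow 2 G), CList D l ∧ l.length = 4 ∧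
    (S : Subgroup G) ≤ centralizer ({l.prod} : Set G) := by
  haveI : Fact (Nat.Prime 2) := ⟨Nat.prime_two⟩
  obtain ⟨χ, hχ⟩ := h.exists_sign
  obtain ⟨S⟩ : Nonempty (Sylow 2 G) := inferInstance
  haveI := S.2.isNilpotent
  set N : Subgroup ↥(S : Subgroup G) := χ.ker.subgroupOf (S : Subgroup G) with hN
  have hNb : N ≠ ⊥ := by
    intro e
    have hinj : Function.Injective (χ.comp (S : Subgroup G).subtype) := by
      rw [← MonoidHom.ker_eq_bot_iff, ← e]
      rfl
    have h1 := Nat.card_le_card_of_injective _ hinj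
    have h2 : Nat.card ℤˣ = 2 := by rw [Nat.card_eq_fintype_card]; rfl
    have h3 : 4 ∣ Nat.card G := by rw [h.card_group]; norm_num
    have h4 : 2 ^ 2 ∣ Nat.card ↥(S : Subgroup G) := Sylow.pow_dvd_card_of_pow_dvd_card S (by simpa using h3)
    have := Nat.le_of_dvd Nat.card_pos h4
    omega
  obtain ⟨z, hz, hz1⟩ := (Subgroup.ne_bot_iff_exists_ne_one).1 (Cfsg.Lib.Coprime.inf_center_ne_bot N hNb) |>
    fun ⟨z, hz⟩ => (⟨z.1, z.2, fun e => hz (Subtype.ext e)⟩ : ∃ z, z ∈ N ⊓ center _ ∧ z ≠ 1)
  obtain ⟨w, hw, hw1, hw2⟩ : ∃ w, w ∈ N ⊓ center _ ∧ w ≠ 1 ∧ w * w = 1 := by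
    have hfin : IsOfFinOrder z := isOfFinOrder_of_finite z
    have h2 : 2 ∣ orderOf z := IsPGroup.dvd_orderOf S.2 hz1
    refine ⟨z ^ (orderOf z / 2), pow_mem hz _, ?_, ?_⟩
    · refine pow_ne_one_of_lt_orderOf ?_ ?_ <;> have := hfin.orderOf_pos <;> omega
    · rw [← pow_add, ← two_mul, Nat.mul_div_cancel' h2, pow_orderOf_eq_one]
  have hw2' : orderOf w.1 = 2 := by
    refine orderOf_eq_prime (by rw [pow_two, ← coe_mul, hw2]; rfl) fun e => hw1 (Subtype.ext e)
  obtain ⟨l, hl, h1, h4, hlw⟩ := h.invForm w.1 hw2'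
  have hsign : χ w.1 = 1 := hw.1
  rw [← hlw, h.sign_prod hl.mem hχ] at hsign
  have hS : (S : Subgroup G) ≤ centralizer ({l.prod} : Set G) := fun g hg => by
    rw [hlw, mem_centralizer_singleton_iff]
    exact congrArg Subtype.val (mem_center_iff.1 hw.2 ⟨g, hg⟩)
  rcases (show l.length = 1 ∨ l.length = 2 ∨ l.length = 3 ∨ l.length = 4 by omega) with e | e | e | e
  · rw [e] at hsign; exact absurd hsign (by decide)
  · exfalso
    obtain ⟨a, b, rfl⟩ := List.length_eq_two.1 e
    have hev := pair_class_even h (hl.mem a (by simp)) (hl.of_cons.2 b (by simp))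
    have hodd := S.not_dvd_index
    refine hodd (dvd_trans ?_ (Subgroup.index_dvd_of_le hS))
    simpa using hev
  · rw [e] at hsign; exact absurd hsign (by decide)
  · exact ⟨l, S, hl, e, hS⟩

/-- A fourth member commuting with three. -/
theorem exists_fourth {a b c : G} (hl : CList D [a, b, c]) :
    ∃ q, CList D [q, a, b, c] := by
  have hn := hl.nodup
  simp only [List.nodup_cons, List.mem_cons, List.not_mem_nil, or_false, not_or, List.nodup_nil, and_true] at hn
  have hb := hl.of_cons.2 b (by simp)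
  have hc := hl.of_cons.2 c (by simp)
  have hbc := hl.of_cons.1.of_cons.2 c (by simp)
  obtain ⟨q, hq⟩ := Set.nonempty_of_ncard_ne_zero (s := perp D a ∩ perp D b ∩ perp D c) (by
    rw [h.solid.full.tower.tri_adj a (hl.mem a (by simp)) b hb c ⟨hc, hbc⟩]; norm_num)
  refine ⟨q, hl.cons hq.1.1.1 fun x hx => ?_⟩
  simp only [List.mem_cons, List.not_mem_nil, or_false] at hx
  rcases hx with rfl | rfl | rfl
  exacts [⟨hl.mem _ (by simp), hq.1.1.2.1.symm, hq.1.1.2.2.symm⟩,
    ⟨hl.mem _ (by simp), hq.1.2.2.1.symm, hq.1.2.2.2.symm⟩, ⟨hl.mem _ (by simp), hq.2.2.1.symm, hq.2.2.2.symm⟩]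

/-- Nothing centralising a product of three moves a factor to a fourth. -/
theorem not_moved {a b c q m : G} (hl : CList D [q, a, b, c]) (hm : Commute m (a * (b * c))) : m * a * m⁻¹ ≠ q := by
  intro hq
  have hl' := hl.of_cons.1.map_conj h.cls m
  simp only [List.map_cons, List.map_nil] at hl'
  have e1 : q * (m * b * m⁻¹ * (m * c * m⁻¹)) = a * (b * c) := by
    rw [← hq, show m * a * m⁻¹ * (m * b * m⁻¹ * (m * c * m⁻¹)) = m * (a * (b * c)) * m⁻¹ by group, hm.eq,
      mul_inv_cancel_right]
  have := h.length_unique hl (l' := [m * b * m⁻¹, m * c * m⁻¹]) hl'.of_cons.1 (by simp) (by simp) (by simp) (by simp)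
    (by
      simp only [List.prod_cons, List.prod_nil, mul_one]
      rw [← e1, ← mul_assoc, sq_eq_one h.cls.1 (hl.mem q (by simp)), one_mul])
  simp at this

end Cfsg.Lib.M24Rec
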