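import Cfsg.Agent.M24Rec.Setting
import Cfsg.Agent.ThreeTransposition.M24Unique.Swap

/-!
An element exchanging the involution with one of its neighbours acts on their common centraliser as an exchange in
the model, since neither acts there as an inner automorphism.
-/

set_option autoImplicit false
set_option linter.unusedSectionVars false
set_option linter.style.haveILetI false
set_option maxRecDepth 100000

namespace Cfsg.Lib.M24Rec

open Cfsg Subgroup Cfsg.Lib.ThreeTr Cfsg.Lib.CosetCert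
open Cfsg.Lib.M23Rec (Fj zz D0 P0 H23 h23 zz_mem zz_sq)
open Cfsg.Lib.ThreeTr.M24U (Wset Exch)
open scoped commutatorElement

attribute [local irreducible] FiFour.rowF FiFour.sevF FiFour.lonF FiFour.blkMask
attribute [local irreducible] FiTwenty.sig0 FiTwenty.sig1 FiTwenty.sig2 FiTwenty.sig3 FiTwenty.sig4 FiTwenty.sig5
  FiTwenty.sig6 FiTwenty.sig7 FiTwenty.sig8 FiTwenty.sig9 FiTwenty.sig10 FiTwenty.subPts FiTwenty.subIdx
  FiTwenty.subTree1Mask FiTwenty.subTree2Mask

universe u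

theorem CM_le : CM ≤ closure (perp E0 ll) := by
  haveI := finite_fk
  intro g hg
  obtain ⟨k, hk⟩ := FiFour.descMap_surjective (FiFour.down ⟨g, hg⟩)
  have hk' : FiFour.down (⟨k.1, FiFour.closure_perp_le k.2⟩ : CM) = FiFour.down ⟨g, hg⟩ := hk
  rcases FiFour.eleven_facts.2.2 ((⟨k.1, FiFour.closure_perp_le k.2⟩ : CM)⁻¹ * ⟨g, hg⟩)
    (by rw [map_mul, map_inv, hk', inv_mul_cancel]) with e | e
  · have : k.1 = g := congrArg Subtype.val (inv_mul_eq_one.1 e)
    exact this ▸ k.2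
  · have h1 : k.1⁻¹ * g = ll := congrArg Subtype.val e
    rw [inv_mul_eq_iff_eq_mul.1 h1]
    exact mul_mem k.2 (h24.solid.self_mem ll ll_mem)

theorem Wset_le (x : Fk) : closure (Wset E0 ll x) ≤ CM :=
  (Subgroup.closure_mono Set.inter_subset_left).trans FiFour.closure_perp_le

theorem comm_central {G : Type*} [Group G] {c A B : G} (hA : Commute c A) (hB : Commute c B) :
    ⁅c * A, B⁆ = ⁅A, B⁆ ∧ ⁅A, c * B⁆ = ⁅A, B⁆ := by
  refine ⟨?_, ?_⟩
  · rw [commutatorElement_def, commutatorElement_def]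
    calc c * A * B * (c * A)⁻¹ * B⁻¹ = c * (A * B * A⁻¹) * c⁻¹ * B⁻¹ := by group
      _ = A * B * A⁻¹ * B⁻¹ := by rw [((hA.mul_right hB).mul_right hA.inv_right).eq, mul_inv_cancel_right]
  · rw [commutatorElement_def, commutatorElement_def]
    calc A * (c * B) * A⁻¹ * (c * B)⁻¹ = A * c * (B * A⁻¹ * B⁻¹) * c⁻¹ := by group
      _ = A * B * A⁻¹ * B⁻¹ := by
        rw [mul_assoc A c, ((hB.mul_right hA.inv_right).mul_right hB.inv_right).eq]
        group

namespace Setting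

variable {X : Type u} [Group X] {G₀ : Subgroup X} {d : X} {θ₀ : Fj →* X} (h : Setting G₀ d θ₀)
include h

variable [Finite X]

/-- Nothing exchanging the involution with a neighbour centralises the members near both. -/
theorem no_inner {x : CM} (hx : x.1 ∈ perp E0 ll) {q : X} (h1 : q * d * q⁻¹ = h.theta x)
    (h2 : q * h.theta x * q⁻¹ = d) (hq : ∀ u : CM, u.1 ∈ Wset E0 ll x.1 → Commute q (h.theta u)) : False := by
  haveI := Cfsg.Lib.M23Rec.finite_fj
  wlog hqG : q ∈ G₀ generalizing q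
  · refine this (q := q * d) ?_ ?_ (fun u hu => (hq u hu).mul_left (h.theta_comm u)) (h.mul_out hqG h.out)
    · rw [← h1]; group
    · rw [show q * d * h.theta x * (q * d)⁻¹ = q * (d * h.theta x * d⁻¹) * q⁻¹ by group,
        conj_fixed_iff.2 (h.theta_comm x), h2]
  set z := FiFour.down x with hz
  have hzD : z ∈ D0 := down_perp hx
  have hθx : h.theta x = d * θ₀ z := h.theta_odd (perp_chi hx)
  have hdx : d * h.theta x = θ₀ z := by rw [hθx, ← mul_assoc, h.sq, one_mul]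
  have hc : Commute q (θ₀ z) := conj_fixed_iff.1 (by
    rw [← hdx, show q * (d * h.theta x) * q⁻¹ = q * d * q⁻¹ * (q * h.theta x * q⁻¹) by group, h1, h2,
      (h.theta_comm x).eq])
  have hgen : ∀ u' ∈ perp D0 z, q * θ₀ u' * q⁻¹ = θ₀ z * θ₀ u' := by
    intro u' hu'
    obtain ⟨v, hv, hve⟩ := exists_perp hu'.1
    have hθv : h.theta v = d * θ₀ u' := by rw [h.theta_odd (perp_chi hv), hve]
    have hvx : v ≠ x := fun e => hu'.2.1 (by rw [← hve, e, hz])
    have hcomm : Commute v x := h.theta_inj (by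
      rw [map_mul, map_mul, hθv, hθx]
      exact (((Commute.refl d).mul_right (h.comm z)).mul_left
        ((h.comm u').symm.mul_right ((show Commute z u' from hu'.2.2).symm.map θ₀))).eq)
    have hW : v.1 ∈ Wset E0 ll x.1 :=
      ⟨hv, hv.1, fun e => hvx (Subtype.ext e), (hcomm.map CM.subtype).symm⟩
    have hvq := hq v hW
    calc q * θ₀ u' * q⁻¹ = q * d * q⁻¹ * (q * h.theta v * q⁻¹) := by
          rw [hθv, show q * d * q⁻¹ * (q * (d * θ₀ u') * q⁻¹) = q * (d * d) * θ₀ u' * q⁻¹ by group, h.sq, mul_one]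
      _ = θ₀ z * θ₀ u' := by
          rw [h1, conj_fixed_iff.2 hvq, hθx, hθv, mul_assoc d, ← mul_assoc (θ₀ z) d, ← (h.comm z).eq,
            mul_assoc d (θ₀ z), ← mul_assoc d d, h.sq, one_mul]
  -- the derived group of the centraliser
  let L : Subgroup Fj :=
    { carrier := {y | Commute y z ∧ (q * θ₀ y * q⁻¹ = θ₀ y ∨ q * θ₀ y * q⁻¹ = θ₀ z * θ₀ y)}
      one_mem' := ⟨Commute.one_left z, Or.inl (by simp)⟩
      mul_mem' := fun {a b} ha hb => by
        refine ⟨ha.1.mul_left hb.1, ?_⟩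
        have e : q * θ₀ (a * b) * q⁻¹ = q * θ₀ a * q⁻¹ * (q * θ₀ b * q⁻¹) := by rw [map_mul]; group
        have hca : Commute (θ₀ z) (θ₀ a) := (ha.1.map θ₀).symm
        have h2z : θ₀ z * θ₀ z = 1 := by rw [← map_mul, sq_eq_one h23.cls.1 hzD, map_one]
        rcases ha.2 with a' | a' <;> rcases hb.2 with b' | b' <;> rw [e, a', b', map_mul]
        · exact Or.inl rfl
        · exact Or.inr (by rw [← mul_assoc, ← hca.eq, mul_assoc])
        · exact Or.inr (by rw [mul_assoc])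
        · refine Or.inl ?_
          rw [mul_assoc (θ₀ z) (θ₀ a), ← mul_assoc (θ₀ a), ← hca.eq, mul_assoc (θ₀ z) (θ₀ a), ← mul_assoc, h2z,
            one_mul]
      inv_mem' := fun {a} ha => by
        refine ⟨ha.1.inv_left, ?_⟩
        have e : q * θ₀ a⁻¹ * q⁻¹ = (q * θ₀ a * q⁻¹)⁻¹ := by rw [map_inv]; group
        have hca : Commute (θ₀ z) (θ₀ a) := (ha.1.map θ₀).symm
        rcases ha.2 with a' | a' <;> rw [e, a', map_inv]
        · exact Or.inl rfl
        · exact Or.inr (by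
            rw [mul_inv_rev, ← hca.inv_inv.eq, ← map_inv θ₀ z, Cfsg.Lib.ThreeTr.inv_eq h23.cls.1 hzD]) }
  have hHL : closure (perp D0 z) ≤ L := (closure_le _).2 fun y hy => ⟨hy.2.2.symm, Or.inr (hgen y hy)⟩
  have hHq : ∀ y ∈ closure (perp D0 z), Commute q (θ₀ y) := by
    have hperf := h23.commutator_closure_perp hzD
    have h3 : (commutator ↥(closure (perp D0 z))).map (closure (perp D0 z)).subtype = closure (perp D0 z) := by
      rw [hperf, ← MonoidHom.range_eq_map, range_subtype]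
    rw [_root_.commutator_def, map_commutator, ← MonoidHom.range_eq_map, range_subtype] at h3
    have hle : ⁅closure (perp D0 z), closure (perp D0 z)⁆ ≤ (centralizer ({q} : Set X)).comap θ₀ := by
      rw [commutator_le]
      intro a ha b hb
      rw [mem_comap, mem_centralizer_singleton_iff]
      refine (conj_fixed_iff.1 ?_).eq.symm
      rw [map_commutatorElement, show q * ⁅θ₀ a, θ₀ b⁆ * q⁻¹ = ⁅q * θ₀ a * q⁻¹, q * θ₀ b * q⁻¹⁆ by
        rw [commutatorElement_def, commutatorElement_def]; group]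
      have hca : Commute (θ₀ z) (θ₀ a) := ((hHL ha).1.map θ₀).symm
      have hcb : Commute (θ₀ z) (θ₀ b) := ((hHL hb).1.map θ₀).symm
      rcases (hHL ha).2 with a' | a' <;> rcases (hHL hb).2 with b' | b' <;> rw [a', b']
      · exact (comm_central hca hcb).2
      · exact (comm_central hca hcb).1
      · rw [(comm_central hca ((Commute.refl _).mul_right hcb)).1, (comm_central hca hcb).2]
    intro y hy
    rw [← h3] at hy
    exact (mem_centralizer_singleton_iff.1 (hle hy)).symm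
  -- back to the base
  obtain ⟨k, hk⟩ := isConj_iff.1 (show IsConj zz z from hzD)
  set q' := (θ₀ k)⁻¹ * q * θ₀ k with hq'
  have hback : ∀ y, Commute q (θ₀ (k * y * k⁻¹)) → Commute q' (θ₀ y) := fun y hy => by
    have := hy.map (MulAut.conj (θ₀ k)⁻¹)
    simp only [MulAut.conj_apply, inv_inv] at this
    rwa [show (θ₀ k)⁻¹ * θ₀ (k * y * k⁻¹) * θ₀ k = θ₀ y by simp only [map_mul, map_inv]; group] at this
  have hqd : Commute q' d := h.cent q' (mul_mem (mul_mem (inv_mem (h.even k)) hqG) (h.even k))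
    (hback zz (by rw [hk]; exact hc)) fun y hy => hback y (hHq _ (by
      rw [← hk, ← map_conj_closure_perp h23.cls k zz]
      exact Subgroup.mem_map_of_mem (MulAut.conj k).toMonoidHom (by rwa [Cfsg.Lib.M23Rec.closure_P0])))
  have hqd' : Commute q d := by
    have := hqd.map (MulAut.conj (θ₀ k))
    simp only [MulAut.conj_apply, hq', conj_fixed_iff.2 (h.comm k).symm] at this
    rwa [show θ₀ k * ((θ₀ k)⁻¹ * q * θ₀ k) * (θ₀ k)⁻¹ = q by group] at this
  rw [conj_fixed_iff.2 hqd'] at h1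
  exact hx.2.1 (congrArg Subtype.val (h.theta_inj (h1.symm.trans h.theta_ll.symm)))

/-- Exchanges with neighbours agree with exchanges in the model. -/
theorem exchange {x : CM} (hx : x.1 ∈ perp E0 ll) : ∃ (wm : Fk) (w : X),
    Exch ll x.1 wm ∧ Exch d (h.theta x) w ∧ w ∈ G₀ ∧ ∀ g : CM, Commute g.1 x.1 →
      ∃ g' : CM, g'.1 = wm * g.1 * wm⁻¹ ∧ h.theta g' = w * h.theta g * w⁻¹ := by
  haveI := finite_fk
  haveI := Cfsg.Lib.M23Rec.finite_fj
  obtain ⟨x0, hx0, hx0t, hx0d⟩ := h.exch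
  obtain ⟨k, hk⟩ := isConj_iff.1 (show IsConj zz (FiFour.down x) from down_perp hx)
  set w := θ₀ k * x0 * (θ₀ k)⁻¹ with hwdef
  have hθx : h.theta x = θ₀ k * (d * θ₀ zz) * (θ₀ k)⁻¹ := by
    rw [h.theta_odd (perp_chi hx), ← hk, map_mul, map_mul, map_inv, ← mul_assoc (θ₀ k) d, ← (h.comm k).eq]
    group
  have hback : x0 * (d * θ₀ zz) * x0⁻¹ = d := by
    rw [show x0 * (d * θ₀ zz) * x0⁻¹ = x0 * d * x0⁻¹ * (x0 * θ₀ zz * x0⁻¹) by group, hx0d,
      conj_fixed_iff.2 hx0t, mul_assoc, ← map_mul, zz_sq, map_one, mul_one]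
  have hw : Exch d (h.theta x) w := by
    refine ⟨?_, ?_⟩
    · rw [hθx, hwdef, show θ₀ k * x0 * (θ₀ k)⁻¹ * d * (θ₀ k * x0 * (θ₀ k)⁻¹)⁻¹ =
        θ₀ k * (x0 * ((θ₀ k)⁻¹ * d * θ₀ k) * x0⁻¹) * (θ₀ k)⁻¹ by group, mul_assoc (θ₀ k)⁻¹ d, (h.comm k).eq,
        inv_mul_cancel_left, hx0d]
    · rw [hθx, hwdef, show θ₀ k * x0 * (θ₀ k)⁻¹ * (θ₀ k * (d * θ₀ zz) * (θ₀ k)⁻¹) * (θ₀ k * x0 * (θ₀ k)⁻¹)⁻¹ =
        θ₀ k * (x0 * (d * θ₀ zz) * x0⁻¹) * (θ₀ k)⁻¹ by group, hback, conj_fixed_iff.2 (h.comm k).symm]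
  have hwG : w ∈ G₀ := mul_mem (mul_mem (h.even k) hx0) (inv_mem (h.even k))
  set WS := Wset E0 ll x.1 with hWS
  have hle := Wset_le x.1
  let f : ↥(closure WS) →* X := h.theta.comp (Subgroup.inclusion hle)
  have hfinj : Function.Injective f := h.theta_inj.comp (Subgroup.inclusion_injective hle)
  have himg : ∀ u : CM, u.1 ∈ WS → ∃ v : CM, v.1 ∈ WS ∧ h.theta v = w * h.theta u * w⁻¹ := by
    intro u hu
    have hne : ∀ y : CM, u.1 ≠ y.1 → h.theta u ≠ h.theta y := fun y hy e => hy (congrArg Subtype.val (h.theta_inj e))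
    have hcomm : Commute (h.theta x) (h.theta u) := by
      have : Commute x u := Subtype.ext hu.2.2.2.eq
      exact this.map h.theta
    obtain ⟨v, hv, hve⟩ := h.perp_form (e := w * h.theta u * w⁻¹)
      ⟨IsConj.trans (h.theta_perp hu.1).1 (isConj_iff.2 ⟨w, rfl⟩), fun e => hne x hu.2.2.1
        (mul_left_cancel (mul_right_cancel (e.trans hw.snd.symm))),
       by
        have := hcomm.map (MulAut.conj w)
        simp only [MulAut.conj_apply, hw.snd] at this
        exact this⟩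
    refine ⟨v, ⟨hv, hv.1, fun e => hne ⟨ll, ll_CM⟩ hu.1.2.1 ?_, ?_⟩, hve⟩
    · rw [Subtype.ext e, ← hw.fst] at hve
      rw [h.theta_ll]
      exact (mul_left_cancel (mul_right_cancel hve)).symm
    · have : Commute (h.theta x) (h.theta v) := by
        rw [hve, ← hw.fst]
        exact (h.theta_comm u).map (MulAut.conj w)
      exact congrArg Subtype.val (h.theta_inj (show h.theta (x * v) = h.theta (v * x) by
        rw [map_mul, map_mul, this.eq]))
  have hmaps : ∀ g : ↥(closure WS), w * f g * w⁻¹ ∈ f.range := by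
    have htop : (⊤ : Subgroup ↥(closure WS)) = Subgroup.closure (((↑) : ↥(closure WS) → Fk) ⁻¹' WS) :=
      (closure_closure_coe_preimage).symm
    have : (⊤ : Subgroup ↥(closure WS)) ≤ (f.range.comap (MulAut.conj w).toMonoidHom).comap f := by
      rw [htop, closure_le]
      intro u hu
      obtain ⟨v, hv, hve⟩ := himg ⟨u.1, hle u.2⟩ hu
      exact ⟨⟨v.1, subset_closure hv⟩, hve⟩
    exact fun g => this (mem_top g)
  let φ : ↥(closure WS) →* ↥(closure WS) :=
    (MonoidHom.ofInjective hfinj).symm.toMonoidHom.comp (((MulAut.conj w).toMonoidHom.comp f).codRestrict f.range hmaps)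
  have hφ : ∀ g, f (φ g) = w * f g * w⁻¹ := fun g => MonoidHom.apply_ofInjective_symm hfinj _
  have hφinj : Function.Injective φ := fun a b e => hfinj (by
    have := congrArg f e
    rw [hφ, hφ] at this
    exact mul_left_cancel (mul_right_cancel this))
  let a₂ : MulAut ↥(closure WS) := MulEquiv.ofBijective φ (Finite.injective_iff_bijective.1 hφinj)
  have ha₂ : ∀ g, f (a₂ g) = w * f g * w⁻¹ := hφ
  obtain ⟨χ, hχ⟩ := h24.exists_sign
  obtain ⟨wm, -, e1, e2⟩ := h24.exists_exchange hχ ll_mem hx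
  have hwm : Exch ll x.1 wm := ⟨e1, e2⟩
  have hcls := h24.solid.full.cls
  let a₁ : MulAut ↥(closure WS) :=
    ((MulAut.conj wm).subgroupMap (closure WS)).trans (MulEquiv.subgroupCongr (M24U.map_W hcls hwm))
  have ha₁ : ∀ g : ↥(closure WS), (a₁ g : Fk) = wm * g * wm⁻¹ := fun _ => rfl
  obtain ⟨hZ, hA, hinjq⟩ := M24U.W_quot h24 ll_mem hx
  have hcW := M24U.conj_W hcls (d := ll) (x := x.1)
  have houter : ∀ a : MulAut ↥(closure WS), (∀ u : ↥(closure WS), (u : Fk) ∈ WS → (a u : Fk) ∈ WS) →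
      M24U.centreQuot a ∈ (MulAut.conj : _ →* MulAut (↥(closure WS) ⧸ center ↥(closure WS))).range →
      ∃ g : ↥(closure WS), ∀ u : ↥(closure WS), (u : Fk) ∈ WS → a u = g * u * g⁻¹ := by
    rintro a haW ⟨q, hq⟩
    obtain ⟨g, rfl⟩ := QuotientGroup.mk_surjective q
    refine ⟨g, fun u hu => hinjq _ _ (haW u hu) (hcW _ hu _ g.2) ?_⟩
    rw [← M24U.centreQuot_mk, ← hq]
    rfl
  have ha₁W : ∀ u : ↥(closure WS), (u : Fk) ∈ WS → (a₁ u : Fk) ∈ WS := fun u hu => hwm.mem_W hcls hu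
  have ha₂W : ∀ u : ↥(closure WS), (u : Fk) ∈ WS → (a₂ u : Fk) ∈ WS := fun u hu => by
    obtain ⟨v, hv, hve⟩ := himg ⟨u.1, hle u.2⟩ hu
    have e : (⟨v.1, subset_closure hv⟩ : ↥(closure WS)) = a₂ u := hfinj (by rw [ha₂]; exact hve)
    exact e ▸ hv
  have hfix : ∀ g : ↥(closure WS), Commute g.1 ll ∧ Commute g.1 x.1 := fun g =>
    ⟨closure_perp_commute (closure_mono Set.inter_subset_left g.2),
      closure_perp_commute (closure_mono Set.inter_subset_right g.2)⟩
  have n₁ : M24U.centreQuot a₁ ∉ (MulAut.conj : _ →* MulAut (↥(closure WS) ⧸ center ↥(closure WS))).range := fun k => by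
    obtain ⟨g, hg⟩ := houter a₁ ha₁W k
    exact M24U.exch_outer h24 ll_mem hx hwm ⟨g, g.2, fun u hu => congrArg Subtype.val (hg ⟨u, subset_closure hu⟩ hu)⟩
  have n₂ : M24U.centreQuot a₂ ∉ (MulAut.conj : _ →* MulAut (↥(closure WS) ⧸ center ↥(closure WS))).range := fun k => by
    obtain ⟨g, hg⟩ := houter a₂ ha₂W k
    have c1 : Commute (f g) (h.theta x) :=
      (show Commute (Subgroup.inclusion hle g) x from Subtype.ext (hfix g).2.eq).map h.theta
    have c2 : Commute (f g) d := (h.theta_comm _).symm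
    refine h.no_inner hx (q := (f g)⁻¹ * w) ?_ ?_ fun u hu => conj_fixed_iff.1 ?_
    · rw [show (f g)⁻¹ * w * d * ((f g)⁻¹ * w)⁻¹ = (f g)⁻¹ * (w * d * w⁻¹) * f g by group, hw.fst,
        mul_assoc, ← c1.eq, inv_mul_cancel_left]
    · rw [show (f g)⁻¹ * w * h.theta x * ((f g)⁻¹ * w)⁻¹ = (f g)⁻¹ * (w * h.theta x * w⁻¹) * f g by group,
        hw.snd, mul_assoc, ← c2.eq, inv_mul_cancel_left]
    · have e := congrArg f (hg ⟨u.1, subset_closure hu⟩ hu)
      rw [ha₂, map_mul, map_mul, map_inv] at e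
      have hfu : f ⟨u.1, subset_closure hu⟩ = h.theta u := rfl
      rw [hfu] at e
      rw [show (f g)⁻¹ * w * h.theta u * ((f g)⁻¹ * w)⁻¹ = (f g)⁻¹ * (w * h.theta u * w⁻¹) * f g by group, e]
      group
  obtain ⟨q, hq⟩ := M24U.differ_by_inner hZ hA n₂ n₁
  obtain ⟨g, rfl⟩ := QuotientGroup.mk_surjective q
  have key : ∀ u : ↥(closure WS), (u : Fk) ∈ WS → a₂ u = g * a₁ u * g⁻¹ := by
    intro u hu
    refine hinjq _ _ (ha₂W u hu) (hcW _ (ha₁W u hu) _ g.2) ?_
    rw [← M24U.centreQuot_mk, hq]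
    rfl
  set wm' := g.1 * wm with hwm'
  have hwmE : Exch ll x.1 wm' := by
    refine ⟨?_, ?_⟩
    · rw [hwm', show g.1 * wm * ll * (g.1 * wm)⁻¹ = g.1 * (wm * ll * wm⁻¹) * g.1⁻¹ by group, hwm.fst,
        conj_fixed_iff.2 (hfix g).2]
    · rw [hwm', show g.1 * wm * x.1 * (g.1 * wm)⁻¹ = g.1 * (wm * x.1 * wm⁻¹) * g.1⁻¹ by group, hwm.snd,
        conj_fixed_iff.2 (hfix g).1]
  refine ⟨wm', w, hwmE, hw, hwG, ?_⟩
  let Q : Subgroup CM :=
    { carrier := {a | ∃ a' : CM, a'.1 = wm' * a.1 * wm'⁻¹ ∧ h.theta a' = w * h.theta a * w⁻¹}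
      one_mem' := ⟨1, by simp, by simp⟩
      mul_mem' := fun {a b} ha hb => by
        obtain ⟨a', a1, a2⟩ := ha
        obtain ⟨b', b1, b2⟩ := hb
        refine ⟨a' * b', ?_, ?_⟩
        · rw [coe_mul, coe_mul, a1, b1]; group
        · rw [map_mul, map_mul, a2, b2]; group
      inv_mem' := fun {a} ha => by
        obtain ⟨a', a1, a2⟩ := ha
        refine ⟨a'⁻¹, ?_, ?_⟩
        · rw [coe_inv, coe_inv, a1]; group
        · rw [map_inv, map_inv, a2]; group }
  have hQW : ∀ a : ↥(closure WS), Subgroup.inclusion hle a ∈ Q := by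
    intro a
    have htop : (⊤ : Subgroup ↥(closure WS)) = Subgroup.closure (((↑) : ↥(closure WS) → Fk) ⁻¹' WS) :=
      (closure_closure_coe_preimage).symm
    have : (⊤ : Subgroup ↥(closure WS)) ≤ Q.comap (Subgroup.inclusion hle) := by
      rw [htop, closure_le]
      intro u hu
      refine ⟨Subgroup.inclusion hle (a₂ u), ?_, ha₂ u⟩
      show (a₂ u : Fk) = wm' * u.1 * wm'⁻¹
      rw [key u hu, coe_mul, coe_mul, coe_inv, ha₁, hwm']
      group
    exact this (mem_top a)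
  have hQd : (⟨ll, ll_CM⟩ : CM) ∈ Q := ⟨x, hwmE.fst.symm, by rw [h.theta_ll, hw.fst]⟩
  intro a hax
  obtain ⟨k', hk', z, hz, hzc, hkz⟩ := h24.solid.stab ll ll_mem x.1 hx a.1 (CM_le a.2) hax
  have hzQ : (⟨z, FiFour.closure_perp_le hzc⟩ : CM) ∈ Q := by
    rcases h24.solid.full.eq_one_or_self ll_mem (closure_perp_commute hzc).symm hz with e | e
    · convert one_mem Q using 1; exact Subtype.ext e
    · convert hQd using 1; exact Subtype.ext e
  have e : a = Subgroup.inclusion hle ⟨k', hk'⟩ * ⟨z, FiFour.closure_perp_le hzc⟩ := Subtype.ext hkz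
  exact e ▸ mul_mem (hQW _) hzQ

end Setting

end Cfsg.Lib.M24Rec
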