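import Cfsg.Agent.M24Rec.Build
import Cfsg.Agent.M24Rec.Classes

/-!
The copy of the model is the whole group: it contains the centralisers of all its members, pairs and triples, every
conjugate of a product of two lies in it, and no product of four is such a conjugate.
-/

set_option autoImplicit false
set_option linter.unusedSectionVars false
set_option linter.style.haveILetI false
set_option maxRecDepth 100000

namespace Cfsg.Lib.M24Rec

open Cfsg Subgroup Cfsg.Lib.ThreeTr Cfsg.Lib.CosetCert
open Cfsg.Lib.M23Rec (Fj zz D0 h23 zz_mem zz_sq)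

attribute [local irreducible] FiFour.rowF FiFour.sevF FiFour.lonF FiFour.blkMask
attribute [local irreducible] FiTwenty.sig0 FiTwenty.sig1 FiTwenty.sig2 FiTwenty.sig3 FiTwenty.sig4 FiTwenty.sig5
  FiTwenty.sig6 FiTwenty.sig7 FiTwenty.sig8 FiTwenty.sig9 FiTwenty.sig10 FiTwenty.subPts FiTwenty.subIdx
  FiTwenty.subTree1Mask FiTwenty.subTree2Mask

universe u

/-- A reflection of a dihedral group is conjugate to one of the generators. -/
theorem reflection_conj {X : Type u} [Group X] {e f : X} (he : e * e = 1) (hf : f * f = 1) :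
    ∀ m : ℕ, IsConj f (f * (e * f) ^ m) ∨ IsConj e (f * (e * f) ^ m)
  | 0 => Or.inl (by rw [pow_zero, mul_one])
  | 1 => Or.inr (isConj_iff.2 ⟨f, by rw [pow_one, inv_eq_of_mul_eq_one_right hf, mul_assoc]⟩)
  | m + 2 => by
    have hfi : f⁻¹ = f := inv_eq_of_mul_eq_one_right hf
    have hei : e⁻¹ = e := inv_eq_of_mul_eq_one_right he
    have hc : IsConj (f * (e * f) ^ m) (f * (e * f) ^ (m + 2)) := isConj_iff.2 ⟨f * e, by
      rw [pow_succ, pow_succ', mul_inv_rev, hfi, hei]
      simp only [mul_assoc]⟩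
    exact (reflection_conj he hf m).imp (fun k => k.trans hc) fun k => k.trans hc

theorem invert_pow {X : Type u} [Group X] {e f : X} (he : e * e = 1) (hf : f * f = 1) (j : ℕ) :
    f * ((e * f) ^ j)⁻¹ = (e * f) ^ j * f := by
  have hfi : f⁻¹ = f := inv_eq_of_mul_eq_one_right hf
  have hei : e⁻¹ = e := inv_eq_of_mul_eq_one_right he
  have e1 : f * ((e * f) ^ j)⁻¹ * f⁻¹ = (e * f) ^ j := by
    rw [← inv_pow, ← conj_pow, mul_inv_rev, hfi, hei, ← mul_assoc f f, hf, one_mul]
  calc f * ((e * f) ^ j)⁻¹ = f * ((e * f) ^ j)⁻¹ * f⁻¹ * f := by group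
    _ = _ := by rw [e1]

namespace Setting

variable {X : Type u} [Group X] {G₀ : Subgroup X} {d : X} {θ₀ : Fj →* X} (h : Setting G₀ d θ₀) [Finite X]
include h

theorem sq_of_mem {e : X} (he : e ∈ conjugatesOf d) : e * e = 1 := by
  obtain ⟨g, rfl⟩ := isConj_iff.1 (show IsConj d e from he)
  rw [show g * d * g⁻¹ * (g * d * g⁻¹) = g * (d * d) * g⁻¹ by group, h.sq, mul_one, mul_inv_cancel]

theorem not_inner {e : X} (he : e ∈ conjugatesOf d) : e ∉ G₀ := by
  obtain ⟨g, rfl⟩ := isConj_iff.1 (show IsConj d e from he)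
  exact h.out_conj g

/-- The group is the model. -/
theorem surjective {F : Fk →* X} (hF : Function.Injective F) (hFk : ∀ k : CM, F k.1 = h.theta k) :
    Function.Surjective F := by
  haveI := finite_fk
  haveI := Cfsg.Lib.M23Rec.finite_fj
  have hd : F ll = d := (hFk ⟨ll, ll_CM⟩).trans h.theta_ll
  have hcomm : ∀ {a b : Fk}, Commute (F a) (F b) → Commute a b := fun {a b} k =>
    hF (by rw [map_mul, map_mul, k.eq])
  have hE : ∀ a ∈ E0, F a ∈ conjugatesOf d := fun a ha => by
    obtain ⟨g, hg⟩ := isConj_iff.1 (show IsConj ll a from ha)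
    exact isConj_iff.2 ⟨F g, by rw [← hd, ← map_inv, ← map_mul, ← map_mul, hg]⟩
  have hcd : ∀ g, Commute g d → g ∈ F.range := fun g hg => by
    obtain ⟨k, rfl⟩ := h.theta_onto hg
    exact ⟨k.1, hFk k⟩
  have hsingle : ∀ a ∈ E0, ∀ g, Commute g (F a) → g ∈ F.range := fun a ha g hg => by
    obtain ⟨k, hk⟩ := isConj_iff.1 (show IsConj ll a from ha)
    have hc : Commute ((F k)⁻¹ * g * F k) d := by
      have := hg.map (MulAut.conj (F k)⁻¹)
      simp only [MulAut.conj_apply, inv_inv] at this
      rwa [← hk, map_mul, map_mul, map_inv, hd, show (F k)⁻¹ * (F k * d * (F k)⁻¹) * F k = d by group] at this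
    have := mul_mem (mul_mem (MonoidHom.mem_range.2 ⟨k, rfl⟩) (hcd _ hc)) (inv_mem (MonoidHom.mem_range.2 ⟨k, rfl⟩))
    rwa [show F k * ((F k)⁻¹ * g * F k) * (F k)⁻¹ = g by group] at this
  have hmove : ∀ a ∈ E0, ∀ p ∈ E0, ∀ g, g * F a * g⁻¹ = F p → g ∈ F.range := fun a ha p hp g hg => by
    obtain ⟨m, hm⟩ := exists_conj h24.cls ha hp
    have hc : Commute ((F m)⁻¹ * g) (F a) := commute_of_conj_eq (by
      rw [hg, ← hm, map_mul, map_mul, map_inv])
    have := mul_mem (MonoidHom.mem_range.2 ⟨m, rfl⟩) (hsingle a ha _ hc)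
    rwa [mul_inv_cancel_left] at this
  -- the conjugates inside
  have hinside : ∀ y : Fk, F y ∈ conjugatesOf d → y ∈ E0 := by
    intro y hy
    have hy2 : orderOf y = 2 := by
      refine orderOf_eq_prime (hF (by rw [map_pow, pow_two, h.sq_of_mem hy, map_one])) fun e => ?_
      exact h.not_inner hy (by rw [e, map_one]; exact one_mem _)
    obtain ⟨l, hl, h1, h4, rfl⟩ := h24.invForm y hy2
    have ho : ∀ z ∈ l, F z ∉ G₀ := fun z hz => h.not_inner (hE z (hl.mem z hz))
    match l, h1, h4 with
    | [a], _, _ => simpa using hl.mem a (by simp)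
    | [a, b], _, _ =>
      refine absurd ?_ (h.not_inner hy)
      simpa using h.mul_out (ho a (by simp)) (ho b (by simp))
    | [a, b, c, e], _, _ =>
      refine absurd ?_ (h.not_inner hy)
      simpa [mul_assoc] using mul_mem (h.mul_out (ho a (by simp)) (ho b (by simp)))
        (h.mul_out (ho c (by simp)) (ho e (by simp)))
    | [a, b, c], _, _ =>
      exfalso
      obtain ⟨g, hg⟩ := exists_conj h24.cls (hl.mem a (by simp)) ll_mem
      have hl' := hl.map_conj h24.cls g
      simp only [List.map_cons, List.map_nil, hg] at hl'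
      set u : CM := ⟨_, perp_CM (hl'.of_cons.2 (g * b * g⁻¹) (by simp))⟩ with hu
      set v : CM := ⟨_, perp_CM (hl'.of_cons.2 (g * c * g⁻¹) (by simp))⟩ with hv
      have hup : u.1 ∈ perp E0 ll := hl'.of_cons.2 _ List.mem_cons_self
      have hvp : v.1 ∈ perp E0 ll := hl'.of_cons.2 _ (List.mem_cons_of_mem _ List.mem_cons_self)
      have huv : v.1 ∈ perp E0 u.1 := hl'.of_cons.1.of_cons.2 _ List.mem_cons_self
      refine h.no_pair (down_perp hup) (b := FiFour.down v) ⟨down_perp hvp, fun e => huv.2.1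
        (congrArg Subtype.val (perp_ext hvp hup e)), (show Commute u v from Subtype.ext huv.2.2.eq).map FiFour.down⟩ ?_
      refine IsConj.trans hy (isConj_iff.2 ⟨F g, ?_⟩)
      simp only [List.prod_cons, List.prod_nil, mul_one]
      rw [← map_inv, ← map_mul, ← map_mul, show g * (a * (b * c)) * g⁻¹ = g * a * g⁻¹ * (u.1 * v.1) by
        simp only [hu, hv]; group, hg, map_mul, hd, ← coe_mul, hFk, map_mul, h.theta_odd (perp_chi hup),
        h.theta_odd (perp_chi hvp), map_mul, (h.comm (FiFour.down u)).eq, mul_assoc (θ₀ _) d, ← mul_assoc d d,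
        h.sq, one_mul]
  -- products of two
  obtain ⟨xt, hxt, hxte⟩ := exists_perp zz_mem
  have hxtθ : F xt.1 = d * θ₀ zz := by rw [hFk, h.theta_odd (perp_chi hxt), hxte]
  have hFt : F (ll * xt.1) = θ₀ zz := by rw [map_mul, hd, hxtθ, ← mul_assoc, h.sq, one_mul]
  have hx0M : ∀ g, g * d * g⁻¹ = d * θ₀ zz → g ∈ F.range := fun g hg =>
    hmove ll ll_mem xt.1 hxt.1 g (by rw [hd, hxtθ, hg])
  have hdM : d ∈ F.range := ⟨ll, hd⟩
  have hCt : ∀ g, Commute g (θ₀ zz) → g ∈ F.range := by
    have inner : ∀ g ∈ G₀, Commute g (θ₀ zz) → g ∈ F.range := fun g hg hc => by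
      rcases h.orbit g hg hc with e | e
      · exact hcd g (conj_fixed_iff.1 e)
      · exact hx0M g e
    intro g hc
    by_cases hg : g ∈ G₀
    · exact inner g hg hc
    · have := mul_mem (inner (g * d) (h.mul_out hg h.out) (hc.mul_left (h.comm zz))) hdM
      rwa [mul_assoc, h.sq, mul_one] at this
  have hpair : ∀ a ∈ E0, ∀ b ∈ perp E0 a, ∀ g, Commute g (F (a * b)) → g ∈ F.range := fun a ha b hb g hg => by
    obtain ⟨k, e1, e2⟩ := pair_conj h24 ll_mem hxt ha hb
    have hk : F (a * b) = F k * θ₀ zz * (F k)⁻¹ := by rw [← e1, ← e2, conj_mul, map_mul, map_mul, map_inv, hFt]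
    rw [hk] at hg
    have hc : Commute ((F k)⁻¹ * g * F k) (θ₀ zz) := by
      have := hg.map (MulAut.conj (F k)⁻¹)
      simp only [MulAut.conj_apply, inv_inv] at this
      rwa [show (F k)⁻¹ * (F k * θ₀ zz * (F k)⁻¹) * F k = θ₀ zz by group] at this
    have := mul_mem (mul_mem (MonoidHom.mem_range.2 ⟨k, rfl⟩) (hCt _ hc)) (inv_mem (MonoidHom.mem_range.2 ⟨k, rfl⟩))
    rwa [show F k * ((F k)⁻¹ * g * F k) * (F k)⁻¹ = g by group] at this
  -- a central involution of a dihedral group with a member inside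
  have hdih : ∀ a ∈ E0, ∀ i e, i * i = 1 → i ≠ 1 → Commute i (F a) → F a * i ∈ conjugatesOf d → Commute e i →
      e ∈ F.range := by
    intro a ha i e hi2 hi1 hia hai hei
    obtain ⟨y, rfl⟩ := hsingle a ha i hia
    rw [← map_mul] at hai
    have hp := hinside _ hai
    have hay := hcomm hia
    have ha2 := sq_eq_one h24.cls.1 ha
    have hy : a * (a * y) = y := by rw [← mul_assoc, ha2, one_mul]
    refine hpair a ha (a * y) ⟨hp, fun e' => hi1 (by rw [mul_eq_left.1 e', map_one]),
      (Commute.refl a).mul_right hay.symm⟩ e (by rwa [hy])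
  have hodd : ∀ a ∈ E0, ∀ e ∈ conjugatesOf d, e ∉ F.range → ∃ k, orderOf (e * F a) = 2 * k + 1 := by
    intro a ha e he hem
    rcases Nat.even_or_odd (orderOf (e * F a)) with ⟨m, hm⟩ | ⟨k, hk⟩
    · exfalso
      have hee := h.sq_of_mem he
      have hff := h.sq_of_mem (hE a ha)
      have hpos := orderOf_pos (e * F a)
      set i := (e * F a) ^ m with hi
      have hi2 : i * i = 1 := by rw [hi, ← pow_add, ← hm, pow_orderOf_eq_one]
      have hi1 : i ≠ 1 := pow_ne_one_of_lt_orderOf (by omega) (by omega)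
      have hif : Commute i (F a) := by
        have := invert_pow hee hff m
        rw [← hi, inv_eq_of_mul_eq_one_right hi2] at this
        exact this.symm
      have hie : Commute i e := by
        have h2 : Commute i (e * F a) := Commute.pow_self _ m
        have := h2.mul_right hif
        rwa [mul_assoc, hff, mul_one] at this
      refine hem (hdih a ha i e hi2 hi1 hif ?_ hie.symm)
      rcases reflection_conj hee hff m with k | k
      · exact IsConj.trans (hE a ha) k
      · exact IsConj.trans he k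
    · exact ⟨k, hk⟩
  -- products of three
  have htriple : ∀ a b c, CList E0 [a, b, c] → ∀ g, Commute g (F (a * (b * c))) → g ∈ F.range := by
    intro a b c hl g hg
    have ha := hl.mem a (by simp)
    set e := g * F a * g⁻¹ with he
    have heD : e ∈ conjugatesOf d := IsConj.trans (hE a ha) (isConj_iff.2 ⟨g, rfl⟩)
    by_cases hem : e ∈ F.range
    · obtain ⟨p, hp⟩ := hem
      exact hmove a ha p (hinside p (hp ▸ heD)) g hp.symm
    · exfalso
      obtain ⟨q, hq⟩ := exists_fourth h24 hl
      have hqc : Commute q (a * (b * c)) :=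
        (hq.comm q (by simp) a (by simp)).mul_right ((hq.comm q (by simp) b (by simp)).mul_right (hq.comm q (by simp) c (by simp)))
      have hac : Commute a (a * (b * c)) :=
        (Commute.refl a).mul_right ((hl.comm a (by simp) b (by simp)).mul_right (hl.comm a (by simp) c (by simp)))
      have heT : Commute e (F (a * (b * c))) := by
        have := (hac.map F).map (MulAut.conj g)
        simp only [MulAut.conj_apply, conj_fixed_iff.2 hg] at this
        exact this
      have hmk : ∀ r ∈ E0, Commute r (a * (b * c)) → ∃ x, Commute x (F (a * (b * c))) ∧ x * F r * x⁻¹ = e := by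
        intro r hr hrc
        obtain ⟨k, hk⟩ := hodd r hr e heD hem
        refine ⟨(e * F r) ^ (k + 1), (heT.mul_left (hrc.map F)).pow_left _, ?_⟩
        rw [mul_assoc, invert_pow (h.sq_of_mem heD) (h.sq_of_mem (hE r hr)), ← mul_assoc, ← pow_add,
          show k + 1 + (k + 1) = 2 * k + 1 + 1 by ring, pow_succ, ← hk, pow_orderOf_eq_one, one_mul, mul_assoc,
          h.sq_of_mem (hE r hr), mul_one]
      obtain ⟨x, hx, hxe⟩ := hmk a ha hac
      obtain ⟨y, hy, hye⟩ := hmk q (hq.mem q (by simp)) hqc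
      have hmv : y⁻¹ * x * F a * (y⁻¹ * x)⁻¹ = F q := by
        rw [show y⁻¹ * x * F a * (y⁻¹ * x)⁻¹ = y⁻¹ * (x * F a * x⁻¹) * y by group, hxe, ← hye]
        group
      obtain ⟨m, hm⟩ := hmove a ha q (hq.mem q (by simp)) _ hmv
      refine not_moved h24 hq (m := m) (hcomm (by rw [hm]; exact hy.inv_left.mul_left hx)) (hF ?_)
      rw [map_mul, map_mul, map_inv, hm, hmv]
  -- every conjugate of a product of two is inside
  haveI := h.normal
  have hall : ∀ g, g * θ₀ zz * g⁻¹ ∈ F.range := by
    intro g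
    set t := g * θ₀ zz * g⁻¹ with ht
    have htG : t ∈ G₀ := h.normal.conj_mem _ (h.even zz) g
    have ht2 : t * t = 1 := by
      rw [ht, show g * θ₀ zz * g⁻¹ * (g * θ₀ zz * g⁻¹) = g * (θ₀ zz * θ₀ zz) * g⁻¹ by group, ← map_mul, zz_sq,
        map_one, mul_one, mul_inv_cancel]
    have hpos := orderOf_pos (t * d)
    have hout : t * d ∉ G₀ := fun k => h.out ((mul_mem_cancel_left htG).1 k)
    rcases Nat.even_or_odd (orderOf (t * d)) with ⟨m, hm⟩ | ⟨k, hk⟩
    · set i := (t * d) ^ m with hi
      have hi2 : i * i = 1 := by rw [hi, ← pow_add, ← hm, pow_orderOf_eq_one]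
      have hi1 : i ≠ 1 := pow_ne_one_of_lt_orderOf (by omega) (by omega)
      have hid : Commute i d := by
        have := invert_pow ht2 h.sq m
        rw [← hi, inv_eq_of_mul_eq_one_right hi2] at this
        exact this.symm
      have hit : Commute i t := by
        have h2 : Commute i (t * d) := Commute.pow_self _ m
        have := h2.mul_right hid
        rwa [mul_assoc, h.sq, mul_one] at this
      obtain ⟨y, hy⟩ := hcd i hid
      rcases reflection_conj ht2 h.sq m with hc | hc
      · refine hdih ll ll_mem i t hi2 hi1 (by rwa [hd]) ?_ hit.symm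
        rw [hd]; exact hc
      · have hiG : i ∉ G₀ := by
          obtain ⟨x, hx⟩ := isConj_iff.1 hc
          have := h.normal.conj_mem t htG x
          rw [hx] at this
          exact fun k => h.out ((mul_mem_cancel_right k).1 this)
        have hy2 : orderOf y = 2 := orderOf_eq_prime (hF (by rw [map_pow, pow_two, hy, hi2, map_one]))
          fun e => hi1 (by rw [← hy, e, map_one])
        obtain ⟨l, hl, h1, h4, rfl⟩ := h24.invForm y hy2
        have ho : ∀ z ∈ l, F z ∉ G₀ := fun z hz => h.not_inner (hE z (hl.mem z hz))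
        rw [← hy] at hiG hit
        match l, h1, h4 with
        | [a], _, _ => exact hsingle a (hl.mem a (by simp)) t (by simpa using hit.symm)
        | [a, b, c], _, _ => exact htriple a b c hl t (by simpa using hit.symm)
        | [a, b], _, _ => exact absurd (by simpa using h.mul_out (ho a (by simp)) (ho b (by simp))) hiG
        | [a, b, c, e], _, _ =>
          refine absurd ?_ hiG
          simpa [mul_assoc] using
            mul_mem (h.mul_out (ho a (by simp)) (ho b (by simp))) (h.mul_out (ho c (by simp)) (ho e (by simp)))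
    · exfalso
      have h1 : (t * d) ^ (2 * k) ∈ G₀ := by
        rw [pow_mul, pow_two]
        exact pow_mem (h.mul_out hout hout) k
      have h2 := pow_orderOf_eq_one (t * d)
      rw [hk, pow_succ] at h2
      exact hout ((mul_mem_cancel_left h1).1 (h2 ▸ one_mem _))
  intro g
  obtain ⟨y, hy⟩ := hall g
  have hyo : orderOf y = 2 := by
    rw [← orderOf_injective F hF, hy, ← MulAut.conj_apply g, ← MulEquiv.coe_toMonoidHom,
      orderOf_injective _ (MulAut.conj g).injective, orderOf_injective θ₀ h.inj]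
    exact h23.cls.1.1 zz zz_mem
  obtain ⟨l, hl, h1, h4, rfl⟩ := h24.invForm y hyo
  have hyG : F l.prod ∈ G₀ := hy ▸ h.normal.conj_mem _ (h.even zz) g
  have ho : ∀ z ∈ l, F z ∉ G₀ := fun z hz => h.not_inner (hE z (hl.mem z hz))
  match l, h1, h4 with
  | [a], _, _ => exact absurd hyG (by simpa using ho a (by simp))
  | [a, b, c], _, _ =>
    refine absurd hyG fun k => ho a (by simp) ?_
    rw [show [a, b, c].prod = a * (b * c) by simp, map_mul, map_mul] at k
    exact (mul_mem_cancel_right (h.mul_out (ho b (by simp)) (ho c (by simp)))).1 k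
  | [a, b], _, _ =>
    obtain ⟨k, e1, e2⟩ := pair_conj h24 ll_mem hxt (hl.mem a (by simp)) (hl.of_cons.2 b (by simp))
    have e : g * θ₀ zz * g⁻¹ = F k * θ₀ zz * (F k)⁻¹ := by
      rw [← hy, ← hFt, ← map_inv, ← map_mul, ← map_mul, ← conj_mul, e1, e2]
      simp
    have := mul_mem (MonoidHom.mem_range.2 ⟨k, rfl⟩) (hCt _ (commute_of_conj_eq e.symm))
    rwa [mul_inv_cancel_left] at this
  | [a, b, c, e], _, _ =>
    exfalso
    obtain ⟨l0, S, hl0, hlen, hS⟩ := exists_quad_sylow h24
    obtain ⟨n, hn⟩ := h24.listTrans l0 _ hl0 hl (by simpa using hlen) (by omega)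
    have hq : [a, b, c, e].prod = n * l0.prod * n⁻¹ := by rw [hn, conj_list_prod]
    set φ : Fk →* X := (MulAut.conj (g⁻¹ * F n)).toMonoidHom.comp F with hφ
    have hφv : ∀ s, φ s = g⁻¹ * F n * F s * (g⁻¹ * F n)⁻¹ := fun _ => rfl
    have hφi : Function.Injective φ := (MulAut.conj _).injective.comp hF
    have hle : (S : Subgroup Fk).map φ ≤ (centralizer ({ll * xt.1} : Set Fk)).map F := by
      rintro _ ⟨s, hs, rfl⟩
      have hc : Commute (φ s) (θ₀ zz) := by
        have h1 : Commute s l0.prod := mem_centralizer_singleton_iff.1 (hS hs)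
        have h2 := h1.map φ
        rwa [show φ l0.prod = θ₀ zz by
          rw [hφv, show g⁻¹ * F n * F l0.prod * (g⁻¹ * F n)⁻¹ = g⁻¹ * (F n * F l0.prod * (F n)⁻¹) * g by group,
            ← map_inv, ← map_mul, ← map_mul, ← hq, hy]
          group] at h2
      obtain ⟨r, hr⟩ := hCt _ hc
      refine ⟨r, mem_centralizer_singleton_iff.2 (hcomm ?_).eq, hr⟩
      rw [hr, hFt]; exact hc
    have hdvd := Subgroup.card_dvd_of_le hle
    rw [card_map_of_injective hφi, card_map_of_injective hF] at hdvd
    obtain ⟨j, hj⟩ := hdvd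
    have hi := Subgroup.card_mul_index (centralizer ({ll * xt.1} : Set Fk))
    rw [← Subgroup.card_mul_index (S : Subgroup Fk), hj, mul_assoc] at hi
    haveI : Fact (Nat.Prime 2) := ⟨Nat.prime_two⟩
    refine S.not_dvd_index ?_
    rw [← Nat.eq_of_mul_eq_mul_left Nat.card_pos hi]
    exact dvd_mul_of_dvd_right (pair_class_even h24 ll_mem hxt) j

end Setting

end Cfsg.Lib.M24Rec
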