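import Cfsg.Agent.M24Rec.Exchange
import Cfsg.Agent.M24Rec.Trace

/-!
The member standing for the last letter: it is found near the ninth letter by an exchange, and compared with the one
found near the first letter, so it commutes with all nine.
-/

set_option autoImplicit false
set_option linter.unusedSectionVars false
set_option linter.style.haveILetI false
set_option maxRecDepth 100000

namespace Cfsg.Lib.M24Rec

open Cfsg Subgroup Cfsg.Lib.ThreeTr Cfsg.Lib.CosetCert
open Cfsg.Lib.M23Rec (Fj zz D0 P0 H23 h23 zz_mem zz_sq)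
open Cfsg.Lib.ThreeTr.M24U (Wset Exch)

attribute [local irreducible] FiFour.rowF FiFour.sevF FiFour.lonF FiFour.blkMask
attribute [local irreducible] FiTwenty.sig0 FiTwenty.sig1 FiTwenty.sig2 FiTwenty.sig3 FiTwenty.sig4 FiTwenty.sig5
  FiTwenty.sig6 FiTwenty.sig7 FiTwenty.sig8 FiTwenty.sig9 FiTwenty.sig10 FiTwenty.subPts FiTwenty.subIdx
  FiTwenty.subTree1Mask FiTwenty.subTree2Mask

universe u

theorem conj_perp' {X : Type u} [Group X] {d p q e g : X} (hq : g * p * g⁻¹ = q) (he : e ∈ perp (conjugatesOf d) p) :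
    g * e * g⁻¹ ∈ perp (conjugatesOf d) q := by
  refine ⟨IsConj.trans he.1 (isConj_iff.2 ⟨g, rfl⟩), fun k => he.2.1 ?_, ?_⟩
  · rw [← hq] at k
    exact mul_left_cancel (mul_right_cancel k)
  · rw [← hq]
    exact he.2.2.map (MulAut.conj g)

theorem lamC_rel : ∀ x ∈ FiFour.lamC, FiFour.lab 0 11 = 3 ∧
    ((x = 6 → FiFour.lab x 1 = 2) ∧ (x ≠ 6 → x ≠ 9 → FiFour.lab x 9 = 2)) := by decide +kernel

theorem lab_pairs : FiFour.lab 1 9 = 2 ∧ FiFour.lab 0 9 = 2 ∧ FiFour.letterPoint 1 ≠ FiFour.letterPoint 9 ∧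
    FiFour.letterPoint 0 ≠ FiFour.letterPoint 9 := by decide +kernel

/-- A letter in the centraliser. -/
noncomputable def lt (x : ℕ) (hx : x < 10) : CM := ⟨FiFour.im x, perp_CM (FiFour.letter_perp hx)⟩

theorem low (x : ℕ) (hx : x ∈ FiFour.lamC) : x < 10 := (lamC_lt x hx).1

namespace Setting

variable {X : Type u} [Group X] {G₀ : Subgroup X} {d : X} {θ₀ : Fj →* X} (h : Setting G₀ d θ₀)
include h

theorem self_perp {e : X} (he : e ∈ perp (conjugatesOf d) d) : d ∈ perp (conjugatesOf d) e :=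
  ⟨mem_conjugatesOf_self, he.2.1.symm, he.2.2.symm⟩

theorem commute_iff (a b : CM) : Commute (h.theta a) (h.theta b) ↔ Commute a.1 b.1 :=
  ⟨fun k => congrArg Subtype.val (h.theta_inj (show h.theta (a * b) = h.theta (b * a) by rw [map_mul, map_mul, k.eq])),
    fun k => (show Commute a b from Subtype.ext k.eq).map h.theta⟩

variable [Finite X]

/-- Near a neighbour commuting with the last letter, something behaves as that letter. -/
theorem member {x : CM} (hx : x.1 ∈ perp E0 ll) (hxk : kk ∈ perp E0 x.1) :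
    ∃ c ∈ perp (conjugatesOf d) (h.theta x), ¬ Commute d c ∧
      ∀ g : CM, Commute g.1 x.1 → (Commute g.1 kk ↔ Commute (h.theta g) c) := by
  obtain ⟨wm, w, hwm, hw, -, hex⟩ := h.exchange hx
  have hzp : wm⁻¹ * kk * wm⁻¹⁻¹ ∈ perp E0 ll := M24U.conj_perp h24.solid.full.cls hwm.inv.snd hxk
  set zm : CM := ⟨_, perp_CM hzp⟩ with hzm
  refine ⟨w * h.theta zm * w⁻¹, conj_perp' hw.fst (h.theta_perp hzp), fun k => not_commute_kk ?_, fun g hg => ?_⟩
  · replace k : Commute (w * h.theta x * w⁻¹) (w * h.theta zm * w⁻¹) := (congrArg (Commute · _) hw.snd).mpr k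
    have := (h.commute_iff x zm).1 ((conj_commute_iff w _ _).1 k)
    rw [hzm] at this
    have h2 := this.map (MulAut.conj wm)
    simp only [MulAut.conj_apply, inv_inv, hwm.snd] at h2
    rwa [show wm * (wm⁻¹ * kk * wm) * wm⁻¹ = kk by group] at h2
  · have c1 : Commute (wm⁻¹ * g.1 * wm⁻¹⁻¹) ll := by
      have := hg.map (MulAut.conj wm⁻¹)
      simp only [MulAut.conj_apply] at this
      rwa [hwm.inv.snd] at this
    have c2 : Commute (wm⁻¹ * g.1 * wm⁻¹⁻¹) x.1 := by
      have := (mem_CM.1 g.2).map (MulAut.conj wm⁻¹)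
      simp only [MulAut.conj_apply] at this
      rwa [hwm.inv.fst] at this
    set g'' : CM := ⟨_, mem_CM.2 c1⟩ with hg''
    obtain ⟨g', e1, e2⟩ := hex g'' c2
    obtain rfl : g' = g := Subtype.ext (e1.trans (by rw [hg'']; group))
    rw [e2, conj_commute_iff, h.commute_iff, hg'', hzm]
    exact (conj_commute_iff wm⁻¹ _ _).symm

/-- Two members near a third which do not commute have product of order three. -/
theorem cube {r e f : X} (he : e ∈ perp (conjugatesOf d) r) (hf : f ∈ perp (conjugatesOf d) r)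
    (hr : r ∈ conjugatesOf d) (hef : ¬ Commute e f) : (e * f) ^ 3 = 1 := by
  haveI := finite_fk
  obtain ⟨g, hg⟩ := isConj_iff.1 (show IsConj d r from hr)
  have hb : g⁻¹ * r * g⁻¹⁻¹ = d := by rw [← hg]; group
  obtain ⟨a, ha, hae⟩ := h.perp_form (conj_perp' hb he)
  obtain ⟨b, hb', hbe⟩ := h.perp_form (conj_perp' hb hf)
  have hab : (a.1 * b.1) ^ 3 = 1 := by
    refine (h24.cls.1.2 a.1 ha.1 b.1 hb'.1).resolve_left fun k => hef ((conj_commute_iff g⁻¹ e f).1 ?_)
    rw [← hae, ← hbe, h.commute_iff]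
    show a.1 * b.1 = b.1 * a.1
    rw [pow_two] at k
    rw [eq_inv_of_mul_eq_one_left k, mul_inv_rev, inv_eq h24.cls.1 ha.1, inv_eq h24.cls.1 hb'.1]
  have h1 : (g⁻¹ * e * g⁻¹⁻¹ * (g⁻¹ * f * g⁻¹⁻¹)) ^ 3 = 1 := by
    rw [← hae, ← hbe, ← map_mul, ← map_pow, show (a * b) ^ 3 = 1 from Subtype.ext hab, map_one]
  rw [show g⁻¹ * e * g⁻¹⁻¹ * (g⁻¹ * f * g⁻¹⁻¹) = g⁻¹ * (e * f) * g⁻¹⁻¹ by group, conj_pow] at h1
  have := congrArg (fun y => g * y * g⁻¹) h1
  simpa [mul_assoc] using this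

/-- The member for the last letter. -/
theorem special : ∃ c ∈ conjugatesOf d, c * c = 1 ∧ (d * c) ^ 3 = 1 ∧ (h.theta (lt 0 (by norm_num)) * c) ^ 3 = 1 ∧
    ∀ x (hx : x ∈ FiFour.lamC), Commute (h.theta (lt x (low x hx))) c := by
  haveI := finite_fk
  obtain ⟨h9, hk9, hl9⟩ := nine_near
  have h1 : FiFour.im 1 ∈ perp E0 ll := FiFour.letter_perp (by norm_num)
  have hk1 : kk ∈ perp E0 (FiFour.im 1) := ⟨kk_mem, fun e => not_commute_kk (by
    show Commute ll (FiFour.im 11)
    rw [show FiFour.im 11 = FiFour.im 1 from e]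
    exact h1.2.2), letter_comm_kk (show 1 ∈ FiFour.lamC by decide)⟩
  set x9 : CM := lt 9 (by norm_num) with hx9
  set x1 : CM := lt 1 (by norm_num) with hx1
  obtain ⟨l19, l09, n19, n09⟩ := lab_pairs
  have c19 : Commute x1.1 x9.1 := FiFour.good_im.comm (by norm_num) (by norm_num) l19
  obtain ⟨c, hc, hdc, hciff⟩ := h.member (x := x9) h9 hk9
  obtain ⟨c', hc', hdc', hciff'⟩ := h.member (x := x1) h1 hk1
  obtain ⟨wm, w, hwm, hw, -, hex⟩ := h.exchange (x := x9) h9
  -- pulled back by the exchange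
  have hne : h.theta x1 ≠ h.theta x9 := fun e =>
    letter_ne (by norm_num) (by norm_num) n19 (congrArg Subtype.val (h.theta_inj e))
  have hc1 : c ∈ perp (conjugatesOf d) (h.theta x1) := ⟨hc.1, fun e => hdc (by rw [e]; exact h.theta_comm _),
    (hciff x1 c19).1 (letter_comm_kk (show 1 ∈ FiFour.lamC by decide))⟩
  have hc9 : c' ∈ perp (conjugatesOf d) (h.theta x9) := ⟨hc'.1, fun e => hdc' (by rw [e]; exact h.theta_comm _),
    (hciff' x9 c19.symm).1 (letter_comm_kk (show 9 ∈ FiFour.lamC by decide))⟩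
  obtain ⟨v, hv, hve⟩ := h.perp_form (conj_perp' hw.inv.snd hc)
  obtain ⟨v', hv', hv'e⟩ := h.perp_form (conj_perp' hw.inv.snd hc9)
  have hb1 : w⁻¹ * h.theta x1 * w⁻¹⁻¹ ∈ perp (conjugatesOf d) d :=
    conj_perp' hw.inv.snd ⟨(h.theta_perp h1).1, hne, ((h.commute_iff x1 x9).2 c19).symm⟩
  obtain ⟨vb, hvb, hvbe⟩ := h.perp_form hb1
  have hvb9 : vb.1 ∈ perp E0 x9.1 := by
    refine ⟨hvb.1, fun e => h1.2.1 ?_, ((h.commute_iff vb x9).1 ?_).symm⟩
    · have e' : h.theta vb = h.theta x9 := congrArg h.theta (Subtype.ext e)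
      rw [hvbe, ← hw.inv.fst] at e'
      have := mul_left_cancel (mul_right_cancel e')
      exact congrArg Subtype.val (h.theta_inj (this.trans h.theta_ll.symm))
    · rw [hvbe, ← hw.inv.fst]
      exact (h.theta_comm x1).symm.map (MulAut.conj w⁻¹)
  have hnot : ∀ {c0 : X} {v0 : CM}, h.theta v0 = w⁻¹ * c0 * w⁻¹⁻¹ → ¬ Commute d c0 → ¬ Commute x9.1 v0.1 := by
    intro c0 v0 e hn k
    refine hn ((conj_commute_iff w⁻¹ d c0).1 ?_)
    rw [← e, hw.inv.fst]
    exact (h.commute_iff _ _).2 k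
  have hvvb : ∀ {c0 : X} {v0 : CM}, v0.1 ∈ perp E0 ll → h.theta v0 = w⁻¹ * c0 * w⁻¹⁻¹ →
      c0 ∈ perp (conjugatesOf d) (h.theta x1) → v0.1 ∈ perp E0 ll ∩ perp E0 vb.1 := by
    intro c0 v0 hv0 e hc0
    refine ⟨hv0, hv0.1, fun k => hc0.2.1 ?_, ((h.commute_iff vb v0).1 ?_)⟩
    · have e' : h.theta v0 = h.theta vb := congrArg h.theta (Subtype.ext k)
      rw [e, hvbe] at e'
      exact mul_left_cancel (mul_right_cancel e')
    · rw [e, hvbe]
      exact hc0.2.2.map (MulAut.conj w⁻¹)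
  have key := M24U.eq_of_local₂ h24 (d := x9.1) (y := ll) (x := vb.1) (c := v.1) (c' := v'.1) h9.1 hl9
    ⟨hvb9, hvb⟩ (hvvb hv hve hc1) (hvvb hv' hv'e hc') (hnot hve hdc) (hnot hv'e hdc') (by
      rintro u ⟨⟨⟨hu9, hul⟩, hub⟩, huv⟩
      set u' : CM := ⟨u, perp_CM hul⟩
      obtain ⟨g, e1, e2⟩ := hex u' hu9.2.2.symm
      have hback : ∀ {c0 : X} {v0 : CM}, h.theta v0 = w⁻¹ * c0 * w⁻¹⁻¹ →
          (Commute (h.theta g) c0 ↔ Commute u v0.1) := fun {c0 v0} e => by
        rw [← h.commute_iff u' v0, e, e2, show w⁻¹ * c0 * w⁻¹⁻¹ = w⁻¹ * c0 * w by group,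
          ← conj_commute_iff w (h.theta u') (w⁻¹ * c0 * w), show w * (w⁻¹ * c0 * w) * w⁻¹ = c0 by group]
      have hg9 : Commute g.1 x9.1 := by
        rw [e1, ← hwm.fst]
        exact (mem_CM.1 u'.2).map (MulAut.conj wm)
      have hgk : Commute g.1 kk := (hciff g hg9).2 ((hback hve).2 huv.2.2.symm)
      have hg1 : Commute g.1 x1.1 := (h.commute_iff g x1).1 (by
        have := ((h.commute_iff u' vb).2 hub.2.2.symm).map (MulAut.conj w)
        simp only [MulAut.conj_apply, ← e2, hvbe] at this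
        rwa [show w * (w⁻¹ * h.theta x1 * w⁻¹⁻¹) * w⁻¹ = h.theta x1 by group] at this)
      exact ⟨hu9.1, fun e => hnot hv'e hdc' (e ▸ hu9.2.2), ((hback hv'e).1 ((hciff' g hg1).1 hgk)).symm⟩)
  have hcc' : c' = c ∨ c' = d * c * d := by
    rcases key with e | e
    · left
      have e' : h.theta v' = h.theta v := congrArg h.theta (Subtype.ext e)
      rw [hve, hv'e] at e'
      exact mul_left_cancel (mul_right_cancel e')
    · right
      have e' : h.theta v' = h.theta (x9 * v * x9) := congrArg h.theta (Subtype.ext (by rw [coe_mul, coe_mul]; exact e))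
      rw [hv'e, map_mul, map_mul, hve] at e'
      have := congrArg (fun y => w * y * w⁻¹) e'
      rw [show w * (w⁻¹ * c' * w⁻¹⁻¹) * w⁻¹ = c' by group,
        show w * (h.theta x9 * (w⁻¹ * c * w⁻¹⁻¹) * h.theta x9) * w⁻¹ =
          w * h.theta x9 * w⁻¹ * c * (w * h.theta x9 * w⁻¹) by group, hw.snd] at this
      exact this
  have hall : ∀ x (hx : x ∈ FiFour.lamC), Commute (h.theta (lt x (low x hx))) c := by
    intro x hx
    obtain ⟨-, r6, r9⟩ := lamC_rel x hx
    rcases eq_or_ne x 6 with rfl | e6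
    · have := (hciff' (lt 6 (low 6 hx)) (FiFour.good_im.comm (by norm_num) (by norm_num) (r6 rfl))).1
        (letter_comm_kk hx)
      rcases hcc' with e | e <;> rw [e] at this
      · exact this
      · have h2 := ((h.theta_comm (lt 6 (low 6 hx))).symm.mul_right this).mul_right (h.theta_comm _).symm
        rwa [← mul_assoc, ← mul_assoc, h.sq, one_mul, mul_assoc, h.sq, mul_one] at h2
    · refine (hciff (lt x (low x hx)) ?_).1 (letter_comm_kk hx)
      rcases eq_or_ne x 9 with rfl | e9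
      · exact Commute.refl _
      · exact FiFour.good_im.comm (by have := low x hx; omega) (by norm_num) (r9 e6 e9)
  have hc0 : ¬ Commute (h.theta (lt 0 (by norm_num))) c := by
    intro k
    have hle : lgp FiFour.im FiFour.sevenBase ≤
        ((centralizer ({c} : Set X)).comap h.theta).map CM.subtype := by
      refine (closure_le _).2 ?_
      rintro _ ⟨x, hx, rfl⟩
      rcases (show ∀ x ∈ FiFour.sevenBase, x = 0 ∨ x ∈ FiFour.lamC by decide) x hx with rfl | hx'
      · exact ⟨lt 0 (by norm_num), mem_centralizer_singleton_iff.2 k.eq, rfl⟩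
      · exact ⟨lt x (low x hx'), mem_centralizer_singleton_iff.2 (hall x hx').eq, rfl⟩
    obtain ⟨a, ha, hae⟩ := hle (show ll ∈ lgp FiFour.im FiFour.sevenBase by
      show FiFour.im 10 ∈ _
      rw [FiFour.good_im.centre]
      refine pow_mem (lgp_wval FiFour.im ?_) 9
      simp only [inLetters, List.all_eq_true, List.contains_iff_mem]
      exact fun l hl => hl)
    rw [show a = ⟨ll, ll_CM⟩ from Subtype.ext hae, SetLike.mem_coe, mem_comap, h.theta_ll,
      mem_centralizer_singleton_iff] at ha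
    exact hdc ha
  obtain ⟨g, hg⟩ := isConj_iff.1 (show IsConj d c from hc.1)
  refine ⟨c, hc.1, ?_, h.cube (h.self_perp (h.theta_perp h9)) hc (h.theta_perp h9).1 hdc,
    h.cube (r := h.theta x9) ?_ hc (h.theta_perp h9).1 hc0, hall⟩
  · rw [← hg, show g * d * g⁻¹ * (g * d * g⁻¹) = g * (d * d) * g⁻¹ by group, h.sq, mul_one, mul_inv_cancel]
  · refine ⟨(h.theta_perp (FiFour.letter_perp (by norm_num))).1, fun e =>
      letter_ne (by norm_num) (by norm_num) n09 (congrArg Subtype.val (h.theta_inj e)), ?_⟩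
    exact ((h.commute_iff (lt 0 (by norm_num)) x9).2
      (FiFour.good_im.comm (show 0 < 12 by norm_num) (show 9 < 12 by norm_num) l09)).symm

end Setting

end Cfsg.Lib.M24Rec
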