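import Cfsg.Agent.M23Rec.Model
import Cfsg.Agent.FiTypes.Four
import Cfsg.Agent.FiFour.Outer
import Cfsg.Agent.FiFour.TranspType

/-!
The centraliser of a member of the model of type M(24): its sign and its image in the model of type M(23).
-/

set_option autoImplicit false
set_option linter.unusedSectionVars false
set_option linter.style.haveILetI false
set_option maxRecDepth 100000

namespace Cfsg.Lib.M24Rec

open Cfsg Subgroup Cfsg.Lib.ThreeTr Cfsg.Lib.CosetCert
open Cfsg.Lib.M23Rec (Fj zz D0 P0 h23 zz_mem)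

attribute [local irreducible] FiFour.rowF FiFour.sevF FiFour.lonF FiFour.blkMask
attribute [local irreducible] FiTwenty.sig0 FiTwenty.sig1 FiTwenty.sig2 FiTwenty.sig3 FiTwenty.sig4 FiTwenty.sig5
  FiTwenty.sig6 FiTwenty.sig7 FiTwenty.sig8 FiTwenty.sig9 FiTwenty.sig10 FiTwenty.subPts FiTwenty.subIdx
  FiTwenty.subTree1Mask FiTwenty.subTree2Mask

/-- The model of type M(24). -/
abbrev Fk : Type := Cfsg.Spor.Fi24

/-- Its class. -/
abbrev E0 : Set Fk := FiFour.transp

/-- The distinguished member. -/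
noncomputable abbrev ll : Fk := FiFour.im 10

/-- The letter next to it. -/
noncomputable abbrev kk : Fk := FiFour.im 11

/-- The centraliser of the distinguished member. -/
noncomputable abbrev CM : Subgroup Fk := lgp FiFour.im FiFour.lamT

theorem h24 : ThreeTr.M24 E0 := FiTypes.four_m24

theorem finite_fk : Finite Fk := FiFour.finite_group

theorem ll_mem : ll ∈ E0 := IsConj.refl _

theorem ll_sq : ll * ll = 1 := FiFour.im_sq 10

theorem mem_CM {g : Fk} : g ∈ CM ↔ Commute g ll := by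
  rw [show (CM : Subgroup Fk) = lgp FiFour.im FiFour.lamT from rfl, ← FiFour.centralizer_z, mem_centralizer_singleton_iff]
  exact Iff.rfl

theorem perp_CM {v : Fk} (hv : v ∈ perp E0 ll) : v ∈ CM := mem_CM.2 hv.2.2.symm

theorem ll_CM : ll ∈ CM := mem_CM.2 (Commute.refl _)

theorem perp_chi {v : Fk} (hv : v ∈ perp E0 ll) : FiFour.chi v = -1 := FiFour.chi_transp hv.1

theorem down_ll : FiFour.down ⟨ll, ll_CM⟩ = 1 := FiFour.down_eq FiFour.agrees_ten

theorem down_kernel {g : CM} (h1 : FiFour.chi g.1 = 1) (h2 : FiFour.down g = 1) : g = 1 := by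
  rcases FiFour.eleven_facts.2.2 g h2 with e | e
  · exact e
  · rw [e] at h1
    exact absurd ((FiFour.chi_transp ll_mem).symm.trans h1) (by decide)

theorem down_perp {v : CM} (hv : v.1 ∈ perp E0 ll) : FiFour.down v ∈ D0 := by
  have h : FiFour.descIso (QuotientGroup.mk ⟨v.1, subset_closure hv⟩) ∈ FiFour.descIso '' descSet E0 ll :=
    ⟨_, ⟨_, hv, rfl⟩, rfl⟩
  rw [FiFour.desc_image_three, FiFour.descIso_mk] at h
  exact h

theorem exists_perp {z : Fj} (hz : z ∈ D0) : ∃ v : CM, v.1 ∈ perp E0 ll ∧ FiFour.down v = z := by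
  rw [show D0 = FiFour.descIso '' descSet E0 ll from FiFour.desc_image_three.symm] at hz
  obtain ⟨_, ⟨k, hk, rfl⟩, rfl⟩ := hz
  rw [FiFour.descIso_mk]
  exact ⟨⟨k.1, perp_CM hk⟩, hk, rfl⟩

theorem exists_lift (y : Fj) (s : ℤˣ) : ∃ k : CM, FiFour.down k = y ∧ FiFour.chi k.1 = s := by
  obtain ⟨k, rfl⟩ := FiFour.down_surjective y
  rcases eq_or_ne (FiFour.chi k.1) s with e | e
  · exact ⟨k, rfl, e⟩
  · refine ⟨k * ⟨ll, ll_CM⟩, by rw [map_mul, down_ll, mul_one], ?_⟩
    rw [coe_mul, map_mul, FiFour.chi_transp ll_mem]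
    rcases Int.units_eq_one_or (FiFour.chi k.1) with a | a <;> rcases Int.units_eq_one_or s with b | b <;>
      rw [a, b] at e ⊢ <;> first | exact absurd rfl e | decide

/-- A member near the distinguished one is determined by its image. -/
theorem perp_ext {v w : CM} (hv : v.1 ∈ perp E0 ll) (hw : w.1 ∈ perp E0 ll)
    (e : FiFour.down v = FiFour.down w) : v = w := by
  refine (inv_mul_eq_one.1 (down_kernel ?_ ?_))
  · rw [coe_mul, coe_inv, map_mul, map_inv, perp_chi hv, perp_chi hw, inv_mul_cancel]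
  · rw [map_mul, map_inv, e, inv_mul_cancel]

theorem perp_of_down {k : CM} (h1 : FiFour.chi k.1 = -1) (h2 : FiFour.down k ∈ D0) : k.1 ∈ perp E0 ll := by
  obtain ⟨v, hv, e⟩ := exists_perp h2
  rw [show k = v from (inv_mul_eq_one.1 (down_kernel (by
    rw [coe_mul, coe_inv, map_mul, map_inv, h1, perp_chi hv, inv_mul_cancel]) (by rw [map_mul, map_inv, e, inv_mul_cancel])))]
  exact hv

end Cfsg.Lib.M24Rec
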